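import Cfsg.Agent.Lib.Helper10.J3.OutB

/-!
The number of automorphisms of the third Janko group is at most twice its order (end).
-/

set_option autoImplicit false

namespace Cfsg.Agent.Lib.Helper10.J3

open Cfsg.Spor Matrix

theorem appPk_two (c0 c1 c0' c1' c2 k v : ℕ) : appPk c0 c1 c2 [2] k v = appPk c0' c1' c2 [2] k v := by
  induction k with
  | zero => rfl
  | succ k ih =>
    show appC c2 (appPk c0 c1 c2 [2] k v) = appC c2 (appPk c0' c1' c2 [2] k v)
    rw [ih]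

theorem wd_two {G : Type*} [Monoid G] (x0 x1 x2 : G) : wd x0 x1 x2 [2] = x2 := by
  show ([x2] : List G).prod = x2
  simp

section field4
variable {F : Type*} [Field F] [Fintype F] (hF : Fintype.card F = 4) (ω : F) (hω : ω ^ 2 + ω + 1 = 0)

/-- the projection onto the simple group. -/
abbrev pj : threeJ3 F ω →* J3 F ω := QuotientGroup.mk' (Subgroup.center (threeJ3 F ω))

omit [Fintype F] in
theorem pj_eq_one_iff (x : threeJ3 F ω) : pj ω x = 1 ↔ x ∈ Subgroup.center (threeJ3 F ω) :=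
  QuotientGroup.eq_one_iff x

include hF hω

theorem pj_inj2 {a b : threeJ3 F ω} (ha : ∃ k : ℕ, a ^ 2 ^ k = 1) (hb : ∃ k : ℕ, b ^ 2 ^ k = 1)
    (h : pj ω a = pj ω b) : a = b :=
  Cfsg.Agent.Lib.Helper89.eq_of_map_eq_of_pElement (pj ω) (by rw [QuotientGroup.ker_mk'])
    (by rw [QuotientGroup.ker_mk', (j3_main hF ω hω).1]; norm_num) ha hb h

variable (κ : ℕ → threeJ3 F ω) (hκ : ∀ j < nC, mat ω (κ j) = decM ω (dC j))
include hκ

theorem Sg_invol : ∀ t ∈ Sg ω κ, t ^ 2 = 1 → t ≠ 1 → ∃ g : threeJ3 F ω, g * κ jz * g⁻¹ = t := by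
  have h2 := two_eq_zero hF
  have m := misc_spec
  have h1 := kap_one h2 ω hω κ hκ
  have hsI : ∀ b < 128, mat ω (κ (sI b)) = decM ω (dC (sI b)) := fun b hb => hκ _ (sI_lt b hb)
  intro t ht ht2 ht1
  obtain ⟨b, hb, rfl⟩ := mem_Sg h2 ω hω κ hκ t ht
  rcases (chkS_spec b hb).2.2.2.2.2.2.2 with h | h | h
  · exfalso
    apply ht1
    rw [h, m.2.2.2.1, h1]
  · exfalso
    apply lift_ne h2 ω hω (hsI b hb) (hsI b hb) (hκ jidC (by decide)) h
    rw [h1, ← pow_two, ht2]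
  · obtain ⟨y, g, hy, hg⟩ := class_mem h2 ω hω κ hκ (sY b) h.1
    refine ⟨g, ?_⟩
    rw [hg]
    apply mat_inj ω
    rw [hy, h.2, hsI b hb]

theorem z_ne_one : κ jz ≠ 1 := by
  have h2 := two_eq_zero hF
  intro h
  rw [← kap_one h2 ω hω κ hκ] at h
  exact absurd (kap_inj h2 ω hω κ hκ _ (by decide) _ (by decide) h) (by decide)

theorem z_sq : κ jz ^ 2 = 1 := by
  have h2 := two_eq_zero hF
  have h1 := kap_one h2 ω hω κ hκ
  have hsI : ∀ b < 128, mat ω (κ (sI b)) = decM ω (dC (sI b)) := fun b hb => hκ _ (sI_lt b hb)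
  have hv := vsg
  simp only [Bool.and_eq_true] at hv
  have hs2 : κ (sI (sG 0)) ^ 2 = 1 := by
    rw [pow_two, ← h1]
    exact lift_mul h2 ω hω (hsI _ (sG_lt 0)) (hsI _ (sG_lt 0)) (hκ _ (by decide)) hv.1
  have hs1 : κ (sI (sG 0)) ≠ 1 := by
    intro h
    rw [← h1, ← misc_spec.2.2.2.1] at h
    have h3 := sI_inj _ (sG_lt 0) _ (by decide)
      (kap_inj h2 ω hω κ hκ _ (sI_lt _ (sG_lt 0)) _ (sI_lt _ (by decide)) h)
    exact absurd h3 (by decide)
  obtain ⟨g, hg⟩ := Sg_invol hF ω hω κ hκ _ (kap_mem_Sg h2 ω hω κ hκ _ (sG_lt 0)) hs2 hs1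
  have : κ jz = g⁻¹ * κ (sI (sG 0)) * g := by rw [← hg]; group
  rw [this]
  have h5 : (g⁻¹ * κ (sI (sG 0)) * g) ^ 2 = g⁻¹ * κ (sI (sG 0)) ^ 2 * g := by
    rw [pow_two, pow_two]; group
  rw [h5, hs2]
  group

variable (y : ℕ → threeJ3 F ω) (hy : ∀ m < nY, mat ω (y m) = decM ω (dY m))
  (hyc : ∀ m < nY, ∃ g : threeJ3 F ω, g * κ jz * g⁻¹ = y m)
include hy hyc

theorem class_complete : ∀ w : threeJ3 F ω, ∃ m < nY, w * κ jz * w⁻¹ = y m := by
  have h2 := two_eq_zero hF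
  intro w
  by_contra hcon
  push Not at hcon
  have hb := card_centralizer_le (κ jz) (nY + 1) (fun m => if m < nY then y m else w * κ jz * w⁻¹) (by
    intro m _
    by_cases hm : m < nY
    · simp only [if_pos hm]
      exact hyc m hm
    · simp only [if_neg hm]
      exact ⟨w, rfl⟩) (by
    intro m hm m' hm' h
    by_cases h1 : m < nY
    · by_cases h1' : m' < nY
      · simp only [if_pos h1, if_pos h1'] at h
        have h3 := congrArg (mat ω) h
        rw [hy m h1, hy m' h1'] at h3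
        exact dY_inj m h1 m' h1' (decM_inj h2 ω hω (dY_lt _) (dY_lt _) h3)
      · simp only [if_pos h1, if_neg h1'] at h
        exact absurd h.symm (hcon m h1)
    · by_cases h1' : m' < nY
      · simp only [if_neg h1, if_pos h1'] at h
        exact absurd h (hcon m' h1')
      · omega) (Cg ω κ) (Cg_comm h2 ω hω κ hκ)
  rw [card_Cg h2 ω hω κ hκ, (j3_main hF ω hω).2.1] at hb
  have : nY = 26163 := rfl
  rw [this] at hb
  omega

theorem y_sq (m : ℕ) (hm : m < nY) : y m ^ 2 = 1 ∧ y m ≠ 1 := by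
  obtain ⟨g, hg⟩ := hyc m hm
  constructor
  · rw [← hg]
    have h5 : (g * κ jz * g⁻¹) ^ 2 = g * κ jz ^ 2 * g⁻¹ := by
      rw [pow_two, pow_two]; group
    rw [h5, z_sq hF ω hω κ hκ]
    group
  · intro h
    apply z_ne_one hF ω hω κ hκ
    have : κ jz = g⁻¹ * (g * κ jz * g⁻¹) * g := by group
    rw [this, hg, h]
    group

theorem invol_J3 : ∀ x : J3 F ω, x ^ 2 = 1 → x ≠ 1 → ∃ m < nY, x = pj ω (y m) := by
  have h2 := two_eq_zero hF
  have hmain := j3_main hF ω hω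
  have hsurj := QuotientGroup.mk'_surjective (Subgroup.center (threeJ3 F ω))
  have hcS := card_Sg h2 ω hω κ hκ
  have hp : IsPGroup 2 (Sg ω κ) := IsPGroup.of_card (n := 7) (by rw [hcS]; norm_num)
  have hfac : (150698880 : ℕ).factorization 2 = 7 := by
    have h : (150698880 : ℕ) = 2 ^ 7 * 1177335 := by norm_num
    rw [h, Nat.factorization_mul (by norm_num) (by norm_num), Finsupp.add_apply,
      Nat.Prime.factorization_pow Nat.prime_two, Finsupp.single_apply,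
      Nat.factorization_eq_zero_of_not_dvd (by norm_num)]
    simp
  have : Fact (Nat.Prime 2) := ⟨Nat.prime_two⟩
  let P : Sylow 2 (threeJ3 F ω) := Sylow.ofCard (Sg ω κ) (by rw [hcS, hmain.2.1, hfac]; norm_num)
  let P1 : Sylow 2 (J3 F ω) := P.mapSurjective hsurj
  intro x hx2 hx1
  have ho : orderOf x = 2 ^ 1 := by
    rw [pow_one]
    exact orderOf_eq_prime hx2 hx1
  have : Finite (J3 F ω) := Nat.finite_of_card_ne_zero (by rw [hmain.2.2.1]; norm_num)
  obtain ⟨h, hh⟩ := Cfsg.Agent.Lib.Helper43.exists_conj_mem_sylow P1 x 1 ho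
  have hh' : h * x * h⁻¹ ∈ (Sg ω κ).map (pj ω) := hh
  obtain ⟨s, hs, hse⟩ := hh'
  have hs2 : s ^ 2 = 1 := by
    apply pj_inj2 hF ω hω (Cfsg.Agent.Lib.Helper89.exists_pow_of_isPGroup hp (Subgroup.pow_mem _ hs 2))
      ⟨0, by simp⟩
    rw [map_pow, hse, map_one]
    have h5 : (h * x * h⁻¹) ^ 2 = h * x ^ 2 * h⁻¹ := by
      rw [pow_two, pow_two]; group
    rw [h5, hx2]
    group
  have hs1 : s ≠ 1 := by
    intro h1
    apply hx1
    rw [h1, map_one] at hse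
    have : x = h⁻¹ * (h * x * h⁻¹) * h := by group
    rw [this, ← hse]
    group
  obtain ⟨g, hg⟩ := Sg_invol hF ω hω κ hκ s hs hs2 hs1
  obtain ⟨ht, rfl⟩ := hsurj h
  obtain ⟨m, hm, he⟩ := class_complete hF ω hω κ hκ y hy hyc (ht⁻¹ * g)
  refine ⟨m, hm, ?_⟩
  rw [← he]
  have h6 : x = (pj ω ht)⁻¹ * (pj ω ht * x * (pj ω ht)⁻¹) * pj ω ht := by group
  rw [h6]
  have h7 : pj ω ht * x * (pj ω ht)⁻¹ = pj ω s := hse.symm
  rw [h7, ← hg]
  simp only [map_mul, map_inv, _root_.mul_inv_rev, inv_inv]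
  group

omit y hy hyc in
theorem comm_J3 : ∀ x : J3 F ω, x * pj ω (κ jz) = pj ω (κ jz) * x → ∃ j < nC, x = pj ω (κ j) := by
  have h2 := two_eq_zero hF
  have hsurj := QuotientGroup.mk'_surjective (Subgroup.center (threeJ3 F ω))
  intro x hx
  obtain ⟨t, rfl⟩ := hsurj x
  have hz2 : ∃ k : ℕ, κ jz ^ 2 ^ k = 1 := ⟨1, by simpa using z_sq hF ω hω κ hκ⟩
  have h3 : t * κ jz * t⁻¹ = κ jz := by
    apply pj_inj2 hF ω hω (Cfsg.Agent.Lib.Helper89.exists_pow_conj hz2 t) hz2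
    have hx' : pj ω t * pj ω (κ jz) = pj ω (κ jz) * pj ω t := hx
    rw [map_mul, map_mul, map_inv, hx', mul_inv_cancel_right]
  have h4 : t * κ jz = κ jz * t := by
    calc t * κ jz = (t * κ jz * t⁻¹) * t := by group
      _ = κ jz * t := by rw [h3]
  obtain ⟨j, hj, he⟩ := mem_Cg h2 ω hω κ hκ t (mem_Cg_of_comm h2 ω hω κ hκ t h4)
  exact ⟨j, hj, by rw [he]⟩

end field4

end Cfsg.Agent.Lib.Helper10.J3
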