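import Cfsg.Agent.Lib.Helper10.J3.CentB
import Cfsg.Agent.Lib.Helper10.J3.VQ
import Cfsg.Agent.Lib.Helper10.J3.OutC
import Cfsg.Agent.Lib.Helper47.AltPres

/-!
The centraliser of an involution of the third Janko group.
-/

set_option autoImplicit false

namespace Cfsg.Agent.Lib.Helper10.J3

open Cfsg.Spor Matrix

theorem qI_inj : ∀ a < 32, ∀ b < 32, qI a = qI b → a = b :=
  inj_of_step qI 32 (fun i hi => qI_step i (by omega))

theorem chkQM_spec (a : ℕ) (ha : a < 32) (b : ℕ) (hb : b < 32) :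
    eqMul (dC (qI a)) (dC (qI b)) (dC (qI (qM a b))) = true := by
  have h : chkQM (Nat.add (Nat.mul 32 a) b) = true :=
    allB_spec 10 0 _ vqm _ (by omega) (by
      have : Nat.add (Nat.mul 32 a) b = 32 * a + b := rfl
      rw [this]; norm_num; omega)
  unfold chkQM at h
  rw [(idx_split a ha b hb).1, (idx_split a ha b hb).2] at h
  exact h

section field4
variable {F : Type*} [Field F] [Fintype F] (hF : Fintype.card F = 4) (ω : F) (hω : ω ^ 2 + ω + 1 = 0)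
include hF hω

theorem rel_of_isOne {x0 x1 x2 : threeJ3 F ω} {c0 c1 c2 : ℕ} (h0 : mat ω x0 = decM ω c0)
    (h1 : mat ω x1 = decM ω c1) (h2' : mat ω x2 = decM ω c2) (p : List ℕ) (k : ℕ)
    (h : isOne c0 c1 c2 p k = true) : wd x0 x1 x2 p ^ k = 1 := by
  apply mat_inj ω
  rw [mat_wd ω h0 h1 h2' p k, eq_one_of_isOne (two_eq_zero hF) ω hω h, map_one]

theorem j3_centralizer :
    (∀ x y : J3 F ω, orderOf x = 2 → orderOf y = 2 → IsConj x y) ∧ ∃ t : J3 F ω, orderOf t = 2 ∧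
    ∃ (Q : Subgroup ↥(Subgroup.centralizer ({t} : Set (J3 F ω)))) (_ : Q.Normal), Cfsg.IsExtraspecial 2 Q ∧
      Nat.card Q = 32 ∧ (∀ E : Subgroup Q, Cfsg.IsElementaryAbelian 2 E → Nat.card E ≤ 2 ^ 2) ∧
      (∃ H : Subgroup ↥(Subgroup.centralizer ({t} : Set (J3 F ω))), Q.IsComplement' H) ∧
      Nonempty (↥(Subgroup.centralizer ({t} : Set (J3 F ω))) ⧸ Q ≃* ↥(alternatingGroup (Fin 5))) := by
  have h2 := two_eq_zero hF
  have hmain := j3_main hF ω hω
  obtain ⟨κ, hκ⟩ := exists_kappa h2 ω hω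
  have hcl := class_mem h2 ω hω κ hκ
  choose! y g hy hg using hcl
  have : Finite (J3 F ω) := Nat.finite_of_card_ne_zero (by rw [hmain.2.2.1]; norm_num)
  have hyc : ∀ m < nY, ∃ g, g * κ jz * g⁻¹ = y m := fun m hm => ⟨g m, hg m hm⟩
  have m := misc_spec
  have h1 := kap_one h2 ω hω κ hκ
  have hz2 := z_sq hF ω hω κ hκ
  have hz1 := z_ne_one hF ω hω κ hκ
  have hcS := card_Sg h2 ω hω κ hκ
  have hp : IsPGroup 2 (Sg ω κ) := IsPGroup.of_card (n := 7) (by rw [hcS]; norm_num)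
  have hconjm : ∀ m < nY, pj ω (g m) * pj ω (κ jz) * (pj ω (g m))⁻¹ = pj ω (y m) := by
    intro m hm
    rw [← hg m hm, map_mul, map_mul, map_inv]
  have hconj : ∀ x : J3 F ω, orderOf x = 2 → IsConj (pj ω (κ jz)) x := by
    intro x hx
    have hx2 : x ^ 2 = 1 := by rw [← hx]; exact pow_orderOf_eq_one x
    have hx1 : x ≠ 1 := by
      rintro rfl
      simp at hx
    obtain ⟨m, hm, rfl⟩ := invol_J3 hF ω hω κ hκ y hy hyc x hx2 hx1
    rw [isConj_iff]
    exact ⟨pj ω (g m), hconjm m hm⟩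
  refine ⟨fun x y hx hy => (hconj x hx).symm.trans (hconj y hy), pj ω (κ jz), ?_, ?_⟩
  · apply orderOf_eq_prime
    · rw [← map_pow, hz2, map_one]
    · intro h
      apply hz1
      exact pj_inj2 hF ω hω ⟨1, by simpa using hz2⟩ ⟨0, by simp⟩ (by rw [h, map_one])
  -- the subgroup of order 32
  have hq2 : ∀ a < 32, ∃ k : ℕ, κ (qI a) ^ 2 ^ k = 1 := by
    intro a ha
    apply Cfsg.Agent.Lib.Helper89.exists_pow_of_isPGroup hp
    rw [← (chkQ_spec a ha).1]
    exact kap_mem_Sg h2 ω hω κ hκ _ (qB_lt a)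
  have hmulk : ∀ a < 32, ∀ b < 32, κ (qI a) * κ (qI b) = κ (qI (qM a b)) := by
    intro a ha b hb
    exact lift_mul h2 ω hω (hκ _ (qI_lt a ha)) (hκ _ (qI_lt b hb)) (hκ _ (qI_lt _ (qT0 a ha b hb)))
      (chkQM_spec a ha b hb)
  obtain ⟨R, hRmem, hRc, hRes, hRE⟩ := table_group (fun a => pj ω (κ (qI a))) qM tid tz 2
    (by decide) (by decide) (by decide) (by decide) (by decide) (by decide)
    (by
      intro a ha b hb h
      exact qI_inj a ha b hb (kap_inj h2 ω hω κ hκ _ (qI_lt a ha) _ (qI_lt b hb)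
        (pj_inj2 hF ω hω (hq2 a ha) (hq2 b hb) h)))
    (by
      intro a ha b hb
      show pj ω (κ (qI a)) * pj ω (κ (qI b)) = pj ω (κ (qI (qM a b)))
      rw [← map_mul, hmulk a ha b hb])
    (by
      show pj ω (κ (qI tid)) = 1
      rw [qI_tid, h1, map_one])
    qT0 qT1 qT2 qT3 qT4 qT4' qT5
  have hcentmem : ∀ x : J3 F ω, x ∈ Subgroup.centralizer ({pj ω (κ jz)} : Set (J3 F ω)) ↔
      x * pj ω (κ jz) = pj ω (κ jz) * x := by
    intro x
    rw [Subgroup.mem_centralizer_singleton_iff]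
  have hCgc : ∀ c ∈ Cg ω κ, pj ω c ∈ Subgroup.centralizer ({pj ω (κ jz)} : Set (J3 F ω)) := by
    intro c hc
    rw [hcentmem, ← map_mul, ← map_mul, Cg_comm h2 ω hω κ hκ c hc]
  -- the complement
  have hk0 := hκ ja0 (by decide)
  have hk1 := hκ ja1 (by decide)
  have hk2 := hκ ja2 (by decide)
  have hv := va5
  unfold chkA5 at hv
  simp only [Bool.and_eq_true] at hv
  obtain ⟨v0, v1, v2, v3, v4, v5⟩ := hv
  have w1 : ∀ l, wd (κ ja0) (κ ja1) (κ ja2) [l] = sel (κ ja0) (κ ja1) (κ ja2) l := by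
    intro l
    simp [wd]
  have w2 : ∀ l l', wd (κ ja0) (κ ja1) (κ ja2) [l, l'] =
      sel (κ ja0) (κ ja1) (κ ja2) l * sel (κ ja0) (κ ja1) (κ ja2) l' := by
    intro l l'
    simp [wd]
  have r0 : κ ja0 ^ 3 = 1 := by
    have := rel_of_isOne hF ω hω hk0 hk1 hk2 _ _ v0
    rw [w1] at this
    exact this
  have r1 : κ ja1 ^ 2 = 1 := by
    have := rel_of_isOne hF ω hω hk0 hk1 hk2 _ _ v1
    rw [w1] at this
    exact this
  have r2 : κ ja2 ^ 2 = 1 := by
    have := rel_of_isOne hF ω hω hk0 hk1 hk2 _ _ v2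
    rw [w1] at this
    exact this
  have r3 : (κ ja0 * κ ja1) ^ 3 = 1 := by
    have := rel_of_isOne hF ω hω hk0 hk1 hk2 _ _ v3
    rw [w2] at this
    exact this
  have r4 : (κ ja1 * κ ja2) ^ 3 = 1 := by
    have := rel_of_isOne hF ω hω hk0 hk1 hk2 _ _ v4
    rw [w2] at this
    exact this
  have r5 : (κ ja0 * κ ja2) ^ 2 = 1 := by
    have := rel_of_isOne hF ω hω hk0 hk1 hk2 _ _ v5
    rw [w2] at this
    exact this
  let a0 : Cg ω κ := ⟨κ ja0, kap_mem_Cg h2 ω hω κ hκ _ (by decide)⟩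
  let a1 : Cg ω κ := ⟨κ ja1, kap_mem_Cg h2 ω hω κ hκ _ (by decide)⟩
  let a2 : Cg ω κ := ⟨κ ja2, kap_mem_Cg h2 ω hω κ hκ _ (by decide)⟩
  have hM : Cfsg.Agent.Lib.Helper47.Moore 2 ![a0, a1, a2] := by
    constructor
    · intro i hi
      fin_cases i
      · exact Subtype.ext r0
      · simp at hi
      · simp at hi
    · intro i hi
      fin_cases i
      · simp at hi
      · exact Subtype.ext r1
      · exact Subtype.ext r2
    · intro i j hij
      fin_cases i <;> fin_cases j <;> simp at hij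
      · exact Subtype.ext r3
      · exact Subtype.ext r4
    · intro i j hij
      fin_cases i <;> fin_cases j <;> simp at hij
      · exact Subtype.ext r5
  obtain ⟨θ0, hθ0⟩ := Cfsg.Agent.Lib.Helper47.exists_hom_of_moore hM
  apply cent_struct (pj ω (κ jz)) R ?_ hRc hRes ?_ hRE ((pj ω).comp ((Cg ω κ).subtype.comp θ0)) ?_ ?_ ?_
  · intro x hx
    obtain ⟨a, ha, rfl⟩ := (hRmem x).1 hx
    exact hCgc _ (kap_mem_Cg h2 ω hω κ hκ _ (qI_lt a ha))
  · intro x hx q hq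
    obtain ⟨j, hj, rfl⟩ := comm_J3 hF ω hω κ hκ x ((hcentmem x).1 hx)
    obtain ⟨a, ha, rfl⟩ := (hRmem q).1 hq
    have hcs : ∀ c ∈ Cg ω κ, ∀ q ∈ {x | ∃ t < 32, x = κ (qI t)}, c * q * c⁻¹ ∈ {x | ∃ t < 32, x = κ (qI t)} := by
      apply conj_set_of_closure
      rintro a ⟨k, hk, rfl⟩ q ⟨t, ht, rfl⟩
      refine ⟨qN t k, qN_lt t k, ?_⟩
      have hq := chkQ_spec t ht
      have h3 : κ (cG k) * κ (qI t) = κ (qI (qN t k)) * κ (cG k) := by
        interval_cases k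
        · exact lift_mul3 h2 ω hω (hκ _ (cG_lt 0)) (hκ _ (qI_lt t ht)) (hκ _ (qI_lt _ (qN_lt t 0)))
            (hκ _ (cG_lt 0)) hq.2.1
        · exact lift_mul3 h2 ω hω (hκ _ (cG_lt 1)) (hκ _ (qI_lt t ht)) (hκ _ (qI_lt _ (qN_lt t 1)))
            (hκ _ (cG_lt 1)) hq.2.2
      rw [h3, mul_inv_cancel_right]
    obtain ⟨b, hb, he⟩ := hcs _ (kap_mem_Cg h2 ω hω κ hκ j hj) _ ⟨a, ha, rfl⟩
    rw [hRmem]
    refine ⟨b, hb, ?_⟩
    show pj ω (κ j) * pj ω (κ (qI a)) * (pj ω (κ j))⁻¹ = pj ω (κ (qI b))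
    rw [← he, map_mul, map_mul, map_inv]
  · intro a
    exact hCgc _ (θ0 a).2
  · refine ⟨Cfsg.Agent.Lib.Helper47.altGen 2 1, ?_⟩
    show pj ω ((θ0 (Cfsg.Agent.Lib.Helper47.altGen 2 1) : Cg ω κ) : threeJ3 F ω) ≠ 1
    rw [hθ0]
    show pj ω (κ ja1) ≠ 1
    intro h
    have h3 : κ ja1 = 1 := pj_inj2 hF ω hω ⟨1, by simpa using r1⟩ ⟨0, by simp⟩ (by rw [h, map_one])
    rw [← h1] at h3
    exact absurd (kap_inj h2 ω hω κ hκ _ (by decide) _ (by decide) h3) (by decide)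
  · have hb := card_centralizer_le (pj ω (κ jz)) nY (fun m => pj ω (y m))
      (fun m hm => ⟨pj ω (g m), hconjm m hm⟩) (by
        intro m hm m' hm' h
        have hy2 := fun m hm => (y_sq hF ω hω κ hκ y hy hyc m hm).1
        have h3 : y m = y m' := pj_inj2 hF ω hω ⟨1, by simpa using hy2 m hm⟩ ⟨1, by simpa using hy2 m' hm'⟩ h
        have h4 := congrArg (mat ω) h3
        rw [hy m hm, hy m' hm'] at h4
        exact dY_inj m hm m' hm' (decM_inj h2 ω hω (dY_lt _) (dY_lt _) h4))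
      (Subgroup.centralizer ({pj ω (κ jz)} : Set (J3 F ω))) (fun x hx => (hcentmem x).1 hx)
    rw [hmain.2.2.1] at hb
    have : nY = 26163 := rfl
    rw [this] at hb
    omega

end field4

end Cfsg.Agent.Lib.Helper10.J3
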