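import Mathlib
import Cfsg.Agent.Lib.Helper75.SylowCoprime

/-!
A simplicity criterion: a centreless finite group generated by elements of prime order `p`, where `p ^ 2` does not
divide the order and no prime power dividing the order is `1` modulo `p`.
-/

set_option autoImplicit false

namespace Cfsg.Agent.Lib.Helper10.J3

open Subgroup

theorem simple_of_prime_gen {X : Type*} [Group X] [Finite X] [Nontrivial X] (p : ℕ) [hp : Fact p.Prime]
    (hp2 : ¬ p ^ 2 ∣ Nat.card X) (S : Set X) (hS : ∀ x ∈ S, x ^ p = 1) (hgen : closure S = ⊤)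
    (hZ : center X = ⊥)
    (harith : ∀ q : ℕ, q.Prime → ∀ k, 0 < k → q ^ k ∣ Nat.card X → q ^ k % p ≠ 1) : IsSimpleGroup X := by
  constructor
  intro N hN
  by_cases hpN : p ∣ Nat.card N
  · right
    rw [eq_top_iff, ← hgen, closure_le]
    intro x hx
    have hidx : ¬ p ∣ N.index := by
      intro h
      apply hp2
      rw [← N.card_mul_index, pow_two]
      exact Nat.mul_dvd_mul hpN h
    have h1 : ((x : X) : X ⧸ N) ^ p = 1 := by
      rw [← QuotientGroup.mk_pow, hS x hx, QuotientGroup.mk_one]
    have h2 : orderOf ((x : X) : X ⧸ N) ∣ p := orderOf_dvd_of_pow_eq_one h1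
    have h3 : orderOf ((x : X) : X ⧸ N) ∣ N.index := by
      rw [Subgroup.index_eq_card]
      exact orderOf_dvd_natCard _
    rcases (Nat.dvd_prime hp.out).1 h2 with h4 | h4
    · rw [orderOf_eq_one_iff, QuotientGroup.eq_one_iff] at h4
      exact h4
    · rw [h4] at h3
      exact absurd h3 hidx
  · left
    rw [eq_bot_iff, ← hZ]
    intro n hn
    have key : ∀ x ∈ S, x ∈ centralizer ({n} : Set X) := by
      intro x hx
      set P : Subgroup X := zpowers x with hP
      have hPp : IsPGroup p P := by
        rintro ⟨y, hy⟩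
        obtain ⟨m, rfl⟩ := mem_zpowers_iff.1 hy
        refine ⟨1, Subtype.ext ?_⟩
        simp only [pow_one, SubmonoidClass.coe_pow, OneMemClass.coe_one]
        rw [← zpow_natCast, ← zpow_mul, mul_comm, zpow_mul, zpow_natCast, hS x hx, one_zpow]
      set C : Subgroup X := N ⊓ normalizer (P : Set X) with hC
      have hCN : C ≤ N := inf_le_left
      have hdvd : Nat.card C ∣ Nat.card N := card_dvd_of_le hCN
      have hN0 : Nat.card N ≠ 0 := Nat.card_pos.ne'
      have hC0 : Nat.card C ≠ 0 := Nat.card_pos.ne'
      have hdvd' : Nat.card N ∣ Nat.card C := by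
        rw [← Nat.factorization_prime_le_iff_dvd hN0 hC0]
        intro q hq
        by_contra hlt
        push Not at hlt
        haveI : Fact q.Prime := ⟨hq⟩
        have hmod := Cfsg.Agent.Lib.Helper75.coprime_qpart_modEq (p := p) (q := q) P N hPp hpN
        rw [← hC] at hmod
        set a := (Nat.card N).factorization q with ha
        set c := (Nat.card C).factorization q with hc
        have hle : q ^ c ≤ q ^ a := Nat.pow_le_pow_right hq.pos hlt.le
        have h1 : p ∣ q ^ a - q ^ c := (Nat.modEq_iff_dvd' hle).1 hmod.symm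
        have h2 : q ^ a - q ^ c = q ^ c * (q ^ (a - c) - 1) := by
          rw [Nat.mul_sub, mul_one, ← pow_add, Nat.add_sub_cancel' hlt.le]
        rw [h2] at h1
        have hqa : q ^ a ∣ Nat.card N := Nat.ordProj_dvd _ _
        have hqN : q ∣ Nat.card N := dvd_trans (dvd_pow_self q (by omega)) hqa
        have hpq : ¬ p ∣ q ^ c := by
          intro h
          have := hp.out.dvd_of_dvd_pow h
          rw [(Nat.prime_dvd_prime_iff_eq hp.out hq).1 this] at hpN
          exact hpN hqN
        have h3 : p ∣ q ^ (a - c) - 1 := (hp.out.dvd_mul.1 h1).resolve_left hpq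
        have h4 : 1 ≤ q ^ (a - c) := Nat.one_le_pow _ _ hq.pos
        have h5 : q ^ (a - c) % p = 1 := by
          have : (1 : ℕ) ≡ q ^ (a - c) [MOD p] := (Nat.modEq_iff_dvd' h4).2 h3
          have h6 := this.symm
          unfold Nat.ModEq at h6
          rw [h6, Nat.mod_eq_of_lt hp.out.one_lt]
        refine harith q hq (a - c) (by omega) ?_ h5
        exact ((pow_dvd_pow q (Nat.sub_le a c)).trans hqa).trans (card_subgroup_dvd_card N)
      have hCeq : C = N := eq_of_le_of_card_ge hCN (Nat.le_of_dvd Nat.card_pos hdvd')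
      have hnC : n ∈ C := hCeq ▸ hn
      have hdisj := Cfsg.Agent.Lib.Helper75.inf_eq_bot_of_not_dvd P N hPp hpN
      have h := Cfsg.Agent.Lib.Helper75.commute_of_mem_normalizer P N hdisj n hn hnC.2 x (mem_zpowers x)
      rw [mem_centralizer_iff]
      intro y hy
      rw [Set.mem_singleton_iff] at hy
      subst hy
      rw [mul_inv_eq_iff_eq_mul] at h
      exact h.symm
    have hall : (⊤ : Subgroup X) ≤ centralizer ({n} : Set X) := by
      rw [← hgen, closure_le]
      exact key
    rw [mem_center_iff]
    intro g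
    have := hall (mem_top g)
    rw [mem_centralizer_iff] at this
    exact (this n rfl).symm
  
end Cfsg.Agent.Lib.Helper10.J3
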