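import Cfsg.Agent.Lib.Helper10.J3.Group
import Cfsg.Agent.Lib.Helper10.J3.Simple

/-!
The centre of the triple cover, and the simplicity of the central quotient.
-/

set_option autoImplicit false

namespace Cfsg.Agent.Lib.Helper10.J3

open Cfsg.Spor Matrix

theorem closure_pair_top {Γ : Type*} [Group Γ] (H : Subgroup Γ) (a b : Γ) (ha : a ∈ H) (hb : b ∈ H)
    (h : H = Subgroup.closure {a, b}) :
    Subgroup.closure ({(⟨a, ha⟩ : H), ⟨b, hb⟩} : Set H) = ⊤ := by
  apply Subgroup.map_injective H.subtype_injective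
  rw [MonoidHom.map_closure, Set.image_pair, ← MonoidHom.range_eq_map, Subgroup.range_subtype]
  exact h.symm

theorem arith19 : ∀ q : ℕ, q.Prime → ∀ k, 0 < k → q ^ k ∣ 50232960 → q ^ k % 19 ≠ 1 := by
  intro q hq k hk hd
  have hq1 : q ∣ 50232960 := (dvd_pow_self q hk.ne').trans hd
  have hfac : (50232960 : ℕ) = 2 ^ 7 * 3 ^ 5 * 5 * 17 * 19 := by norm_num
  have hcases : q = 2 ∨ q = 3 ∨ q = 5 ∨ q = 17 ∨ q = 19 := by
    rw [hfac] at hq1
    rcases (Nat.Prime.dvd_mul hq).1 hq1 with h | h
    · rcases (Nat.Prime.dvd_mul hq).1 h with h | h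
      · rcases (Nat.Prime.dvd_mul hq).1 h with h | h
        · rcases (Nat.Prime.dvd_mul hq).1 h with h | h
          · left; exact (Nat.prime_dvd_prime_iff_eq hq (by norm_num)).1 (hq.dvd_of_dvd_pow h)
          · right; left; exact (Nat.prime_dvd_prime_iff_eq hq (by norm_num)).1 (hq.dvd_of_dvd_pow h)
        · right; right; left; exact (Nat.prime_dvd_prime_iff_eq hq (by norm_num)).1 h
      · right; right; right; left; exact (Nat.prime_dvd_prime_iff_eq hq (by norm_num)).1 h
    · right; right; right; right; exact (Nat.prime_dvd_prime_iff_eq hq (by norm_num)).1 h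
  have bound : ∀ (r m : ℕ), ¬ r ^ m ∣ 50232960 → r ^ k ∣ 50232960 → k < m := by
    intro r m h1 h3
    by_contra hge
    push Not at hge
    exact h1 ((pow_dvd_pow r hge).trans h3)
  rcases hcases with rfl | rfl | rfl | rfl | rfl
  · have := bound 2 8 (by norm_num) hd
    interval_cases k <;> norm_num
  · have := bound 3 6 (by norm_num) hd
    interval_cases k <;> norm_num
  · have := bound 5 2 (by norm_num) hd
    interval_cases k <;> norm_num
  · have := bound 17 2 (by norm_num) hd
    interval_cases k <;> norm_num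
  · have := bound 19 2 (by norm_num) hd
    interval_cases k <;> norm_num

section field
variable {F : Type*} [Field F]

theorem omega_cube (ω : F) (hω : ω ^ 2 + ω + 1 = 0) : ω ^ 3 = 1 := by
  linear_combination (ω - 1) * hω

theorem omega_ne_one (h2 : (2 : F) = 0) (ω : F) (hω : ω ^ 2 + ω + 1 = 0) : ω ≠ 1 := by
  rintro rfl
  have : (1 : F) = 0 := by linear_combination hω - h2
  exact one_ne_zero this

theorem omegaPow_inj (h2 : (2 : F) = 0) (ω : F) (hω : ω ^ 2 + ω + 1 = 0) (a b : ZMod 3)
    (h : omegaPow F ω a = omegaPow F ω b) : a = b := by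
  unfold omegaPow at h
  have ho : orderOf ω = 3 := orderOf_eq_prime (omega_cube ω hω) (omega_ne_one h2 ω hω)
  apply ZMod.val_injective
  have ha := ZMod.val_lt a
  have hb := ZMod.val_lt b
  exact pow_injOn_Iio_orderOf (x := ω) (by rw [ho]; exact ha) (by rw [ho]; exact hb) h

/-- a matrix commuting with the diagonal and the translation generators is scalar. -/
theorem scalar_of_commute (h2 : (2 : F) = 0) (ω : F) (hω : ω ^ 2 + ω + 1 = 0) (m : Matrix F9 F9 F)
    (hA : ∀ Z, m * j3A F ω Z = j3A F ω Z * m) (hD : ∀ Z, m * j3D F ω Z = j3D F ω Z * m) :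
    m = m 0 0 • (1 : Matrix F9 F9 F) := by
  have hdiag : ∀ w z : F9, w ≠ z → m w z = 0 := by
    intro w z hwz
    have key : ∀ Z : F9, Z.1 * z.1 + Z.2 * z.2 ≠ Z.1 * w.1 + Z.2 * w.2 → m w z = 0 := by
      intro Z hZ
      have h := congrFun (congrFun (hA Z) w) z
      unfold j3A at h
      rw [Matrix.mul_diagonal, Matrix.diagonal_mul] at h
      have hne : omegaPow F ω (Z.1 * z.1 + Z.2 * z.2) - omegaPow F ω (Z.1 * w.1 + Z.2 * w.2) ≠ 0 := by
        intro h0
        exact hZ (omegaPow_inj h2 ω hω _ _ (sub_eq_zero.1 h0))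
      have h3 : m w z * (omegaPow F ω (Z.1 * z.1 + Z.2 * z.2) - omegaPow F ω (Z.1 * w.1 + Z.2 * w.2)) = 0 := by
        linear_combination h
      exact (mul_eq_zero.1 h3).resolve_right hne
    by_cases h1 : w.1 = z.1
    · have h3 : w.2 ≠ z.2 := fun h => hwz (Prod.ext h1 h)
      apply key (0, 1)
      simpa using fun h => h3 h.symm
    · apply key (1, 0)
      simpa using fun h => h1 h.symm
  have hconst : ∀ Z : F9, m Z Z = m 0 0 := by
    intro Z
    have h := congrFun (congrFun (hD Z) Z) 0
    rw [Matrix.mul_apply, Matrix.mul_apply, Finset.sum_eq_single Z, Finset.sum_eq_single 0] at h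
    · have hd : j3D F ω Z Z 0 = 1 := by
        unfold j3D j3Lam
        simp
      rw [hd, mul_one, one_mul] at h
      exact h
    · intro b _ hb
      rw [hdiag b 0 hb, mul_zero]
    · intro h; exact absurd (Finset.mem_univ _) h
    · intro b _ hb
      rw [hdiag Z b (Ne.symm hb), zero_mul]
    · intro h; exact absurd (Finset.mem_univ _) h
  ext w z
  rw [Matrix.smul_apply, Matrix.one_apply]
  by_cases hwz : w = z
  · rw [if_pos hwz, hwz, hconst, smul_eq_mul, mul_one]
  · rw [if_neg hwz, hdiag w z hwz, smul_zero]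

theorem four_cases [Fintype F] (hF : Fintype.card F = 4) (ω : F) (hω : ω ^ 2 + ω + 1 = 0) (c : F) (hc : c ≠ 0) :
    c = 1 ∨ c = ω ∨ c = ω ^ 2 := by
  have h3 : c ^ 3 = 1 := by
    have := FiniteField.pow_card_sub_one_eq_one c hc
    rwa [hF] at this
  have hprod : (c - 1) * ((c - ω) * (c - ω ^ 2)) = 0 := by
    linear_combination h3 + (-(c - 1) * c + (c - 1) * (ω - 1)) * hω
  rcases mul_eq_zero.1 hprod with h | h
  · left; exact sub_eq_zero.1 h
  · rcases mul_eq_zero.1 h with h | h
    · right; left; exact sub_eq_zero.1 h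
    · right; right; exact sub_eq_zero.1 h

end field

section main
variable {F : Type*} [Field F] [Fintype F]

theorem center_scalar (hF : Fintype.card F = 4) (ω : F) (hω : ω ^ 2 + ω + 1 = 0)
    (g : threeJ3 F ω) (hg : g ∈ Subgroup.center (threeJ3 F ω)) :
    ((g : (Matrix F9 F9 F)ˣ) : Matrix F9 F9 F) = (1 : Matrix F9 F9 F) ∨
    ((g : (Matrix F9 F9 F)ˣ) : Matrix F9 F9 F) = ω • (1 : Matrix F9 F9 F) ∨
    ((g : (Matrix F9 F9 F)ˣ) : Matrix F9 F9 F) = ω ^ 2 • (1 : Matrix F9 F9 F) := by
  have h2 := two_eq_zero hF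
  rw [Subgroup.mem_center_iff] at hg
  set m : Matrix F9 F9 F := ((g : (Matrix F9 F9 F)ˣ) : Matrix F9 F9 F) with hm
  have hcomm : ∀ x : (Matrix F9 F9 F)ˣ, x ∈ threeJ3 F ω → m * (x : Matrix F9 F9 F) = (x : Matrix F9 F9 F) * m := by
    intro x hx
    have h := hg ⟨x, hx⟩
    have h' := congrArg (fun y : threeJ3 F ω => ((y : (Matrix F9 F9 F)ˣ) : Matrix F9 F9 F)) h
    simp only [Subgroup.coe_mul, Units.val_mul] at h'
    exact h'.symm
  have hs : m = m 0 0 • (1 : Matrix F9 F9 F) := by
    apply scalar_of_commute h2 ω hω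
    · intro Z
      obtain ⟨x, hx, hxe⟩ := memA h2 ω hω Z
      rw [← decM_gA h2 ω hω, ← hxe]
      exact hcomm x hx
    · intro Z
      obtain ⟨x, hx, hxe⟩ := memD h2 ω hω Z
      rw [← decM_gD h2 ω hω, ← hxe]
      exact hcomm x hx
  have hc : m 0 0 ≠ 0 := by
    intro h0
    rw [h0, zero_smul] at hs
    exact (g : (Matrix F9 F9 F)ˣ).ne_zero hs
  rcases four_cases hF ω hω _ hc with h | h | h
  · left; rw [hs, h, one_smul]
  · right; left; rw [hs, h]
  · right; right; rw [hs, h]

theorem j3_main (hF : Fintype.card F = 4) (ω : F) (hω : ω ^ 2 + ω + 1 = 0) :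
    Nat.card (Subgroup.center (threeJ3 F ω)) = 3 ∧ Nat.card (threeJ3 F ω) = 150698880 ∧
    Nat.card (J3 F ω) = 50232960 ∧ IsSimpleGroup (J3 F ω) := by
  have h2 := two_eq_zero hF
  obtain ⟨su, sv, hu19, hv19, hK, hcard, ⟨z, hz, hze⟩, -, -⟩ := structure_threeJ3 h2 ω hω
  have hsu : su ∈ threeJ3 F ω := by rw [hK]; exact Subgroup.subset_closure (Or.inl rfl)
  have hsv : sv ∈ threeJ3 F ω := by rw [hK]; exact Subgroup.subset_closure (Or.inr rfl)
  set ζ : threeJ3 F ω := ⟨z, hz⟩ with hζ
  have hζc : ζ ∈ Subgroup.center (threeJ3 F ω) := by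
    rw [Subgroup.mem_center_iff]
    intro h
    apply Subtype.ext
    apply Units.ext
    simp only [Subgroup.coe_mul, Units.val_mul, hζ, hze]
    rw [mul_smul_comm, smul_mul_assoc, mul_one, one_mul]
  have hζ3 : ζ ^ 3 = 1 := by
    apply Subtype.ext
    apply Units.ext
    simp only [Subgroup.coe_pow, Units.val_pow_eq_pow_val, hζ, hze, Subgroup.coe_one, Units.val_one]
    rw [smul_pow, one_pow, omega_cube ω hω, one_smul]
  have hζ1 : ζ ≠ 1 := by
    intro h
    have h' := congrArg (fun y : threeJ3 F ω => ((y : (Matrix F9 F9 F)ˣ) : Matrix F9 F9 F) 0 0) h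
    simp only [hζ, hze, Subgroup.coe_one, Units.val_one, Matrix.smul_apply, Matrix.one_apply_eq, smul_eq_mul,
      mul_one] at h'
    exact omega_ne_one h2 ω hω h'
  have hord : orderOf ζ = 3 := orderOf_eq_prime hζ3 hζ1
  have hcen : Subgroup.center (threeJ3 F ω) = Subgroup.zpowers ζ := by
    apply le_antisymm
    · intro g hg
      rcases center_scalar hF ω hω g hg with h | h | h
      · have : g = 1 := by
          apply Subtype.ext
          apply Units.ext
          rw [h]; rfl
        rw [this]; exact Subgroup.one_mem _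
      · have : g = ζ := by
          apply Subtype.ext
          apply Units.ext
          rw [h, hζ, hze]
        rw [this]; exact Subgroup.mem_zpowers _
      · have : g = ζ ^ 2 := by
          apply Subtype.ext
          apply Units.ext
          rw [h]
          simp only [Subgroup.coe_pow, Units.val_pow_eq_pow_val, hζ, hze]
          rw [smul_pow, one_pow]
        rw [this]; exact Subgroup.pow_mem _ (Subgroup.mem_zpowers _) _
    · rw [Subgroup.zpowers_le]
      exact hζc
  have hc3 : Nat.card (Subgroup.center (threeJ3 F ω)) = 3 := by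
    rw [hcen, Nat.card_zpowers, hord]
  have hq : Nat.card (J3 F ω) = 50232960 := by
    have h := Subgroup.card_eq_card_quotient_mul_card_subgroup (Subgroup.center (threeJ3 F ω))
    rw [hcard, hc3] at h
    have h' : Nat.card (J3 F ω) * 3 = 150698880 := h.symm
    omega
  refine ⟨hc3, hcard, hq, ?_⟩
  haveI : Finite (threeJ3 F ω) := Nat.finite_of_card_ne_zero (by rw [hcard]; norm_num)
  haveI : Finite (J3 F ω) := Nat.finite_of_card_ne_zero (by rw [hq]; norm_num)
  haveI : Nontrivial (J3 F ω) := Finite.one_lt_card_iff_nontrivial.1 (by rw [hq]; norm_num)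
  haveI : Fact (Nat.Prime 19) := ⟨by norm_num⟩
  set a : threeJ3 F ω := ⟨su, hsu⟩ with ha
  set b : threeJ3 F ω := ⟨sv, hsv⟩ with hb
  have ha19 : a ^ 19 = 1 := Subtype.ext (by simpa using hu19)
  have hb19 : b ^ 19 = 1 := Subtype.ext (by simpa using hv19)
  have htop : Subgroup.closure ({a, b} : Set (threeJ3 F ω)) = ⊤ := closure_pair_top _ su sv hsu hsv hK
  apply simple_of_prime_gen 19 (by rw [hq]; norm_num)
    ({(QuotientGroup.mk a : J3 F ω), (QuotientGroup.mk b : J3 F ω)} : Set (J3 F ω))
  · rintro x (rfl | rfl)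
    · rw [← QuotientGroup.mk_pow, ha19, QuotientGroup.mk_one]
    · rw [← QuotientGroup.mk_pow, hb19, QuotientGroup.mk_one]
  · have h1 : Subgroup.map (QuotientGroup.mk' (Subgroup.center (threeJ3 F ω))) (Subgroup.closure {a, b}) = ⊤ := by
      rw [htop, ← MonoidHom.range_eq_map, MonoidHom.range_eq_top]
      exact QuotientGroup.mk'_surjective _
    rw [MonoidHom.map_closure, Set.image_pair] at h1
    exact h1
  · rw [eq_bot_iff]
    intro xb hxb
    obtain ⟨x, rfl⟩ := QuotientGroup.mk_surjective xb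
    rw [Subgroup.mem_center_iff] at hxb
    rw [Subgroup.mem_bot, QuotientGroup.eq_one_iff]
    have key : ∀ t : threeJ3 F ω, t ^ 19 = 1 → t * x = x * t := by
      intro t ht
      have h1 := hxb (QuotientGroup.mk t)
      rw [← QuotientGroup.mk_mul, ← QuotientGroup.mk_mul, QuotientGroup.eq] at h1
      set c := (t * x)⁻¹ * (x * t) with hc
      have hc3' : c ^ 3 = 1 := by
        have := pow_card_eq_one' (G := Subgroup.center (threeJ3 F ω)) (x := ⟨c, h1⟩)
        rw [hc3] at this
        exact congrArg Subtype.val this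
      have hxt : x * t = t * x * c := by rw [hc]; group
      have hconj : x * t * x⁻¹ = t * (x * c * x⁻¹) := by rw [hxt]; group
      have hcc : x * c * x⁻¹ = c := by
        have := (Subgroup.mem_center_iff.1 h1) x
        rw [this]; group
      rw [hcc] at hconj
      have hcomm : Commute t c := ((Subgroup.mem_center_iff.1 h1) t)
      have h19 : (x * t * x⁻¹) ^ 19 = 1 := by rw [conj_pow, ht]; group
      rw [hconj, hcomm.mul_pow, ht, one_mul] at h19
      have hc1 : c = 1 := by
        have : c ^ 19 = (c ^ 3) ^ 6 * c := by group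
        rw [this, hc3', one_pow, one_mul] at h19
        exact h19
      rw [hxt, hc1, mul_one]
    have hall : (⊤ : Subgroup (threeJ3 F ω)) ≤ Subgroup.centralizer ({x} : Set (threeJ3 F ω)) := by
      rw [← htop, Subgroup.closure_le]
      rintro t (rfl | rfl)
      · rw [SetLike.mem_coe, Subgroup.mem_centralizer_iff]
        intro y hy
        rw [Set.mem_singleton_iff] at hy
        subst hy
        exact (key _ ha19).symm
      · rw [SetLike.mem_coe, Subgroup.mem_centralizer_iff]
        intro y hy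
        rw [Set.mem_singleton_iff] at hy
        subst hy
        exact (key _ hb19).symm
    rw [Subgroup.mem_center_iff]
    intro g
    have := hall (Subgroup.mem_top g)
    rw [Subgroup.mem_centralizer_iff] at this
    exact (this x rfl).symm
  · rw [hq]
    exact arith19

end main

end Cfsg.Agent.Lib.Helper10.J3
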