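import Cfsg.Agent.Lib.Helper10.J3.Code

/-!
Boolean checks on matrix codes and their meaning.
-/

set_option autoImplicit false

namespace Cfsg.Agent.Lib.Helper10.J3

open Cfsg.Spor Matrix

/-- `f` holds on `[lo, lo + 2 ^ k)`. -/
def allB : ℕ → ℕ → (ℕ → Bool) → Bool
  | 0, lo, f => f lo
  | k + 1, lo, f => allB k lo f && allB k (lo + 2 ^ k) f

theorem allB_spec : ∀ (k lo : ℕ) (f : ℕ → Bool), allB k lo f = true → ∀ i, lo ≤ i → i < lo + 2 ^ k → f i = true
  | 0, lo, f, h, i, h1, h2 => by
    have : i = lo := by simp at h2; omega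
    rw [this]; exact h
  | k + 1, lo, f, h, i, h1, h2 => by
    rw [allB, Bool.and_eq_true] at h
    rw [pow_succ] at h2
    by_cases hi : i < lo + 2 ^ k
    · exact allB_spec k lo f h.1 i h1 hi
    · exact allB_spec k (lo + 2 ^ k) f h.2 i (by omega) (by omega)

/-- table lookup in chunks of 2048 entries of `w` bits. -/
def look (w mask : ℕ) (ch : ℕ → ℕ) (i : ℕ) : ℕ :=
  Nat.land (Nat.shiftRight (ch (Nat.shiftRight i 11)) (Nat.mul w (Nat.land i 2047))) mask

/-- `a * b = c` on codes. -/
def eqMul (a b c : ℕ) : Bool :=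
  Nat.beq (appC a (col b 0)) (col c 0) && (Nat.beq (appC a (col b 1)) (col c 1) &&
  (Nat.beq (appC a (col b 2)) (col c 2) && (Nat.beq (appC a (col b 3)) (col c 3) &&
  (Nat.beq (appC a (col b 4)) (col c 4) && (Nat.beq (appC a (col b 5)) (col c 5) &&
  (Nat.beq (appC a (col b 6)) (col c 6) && (Nat.beq (appC a (col b 7)) (col c 7) &&
  Nat.beq (appC a (col b 8)) (col c 8))))))))

/-- `a * b = c * d` on codes. -/
def eqMul3 (a b c d : ℕ) : Bool :=
  Nat.beq (appC a (col b 0)) (appC c (col d 0)) && (Nat.beq (appC a (col b 1)) (appC c (col d 1)) &&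
  (Nat.beq (appC a (col b 2)) (appC c (col d 2)) && (Nat.beq (appC a (col b 3)) (appC c (col d 3)) &&
  (Nat.beq (appC a (col b 4)) (appC c (col d 4)) && (Nat.beq (appC a (col b 5)) (appC c (col d 5)) &&
  (Nat.beq (appC a (col b 6)) (appC c (col d 6)) && (Nat.beq (appC a (col b 7)) (appC c (col d 7)) &&
  Nat.beq (appC a (col b 8)) (appC c (col d 8)))))))))

theorem eqMul_spec {a b c : ℕ} (h : eqMul a b c = true) : ∀ j < 9, appC a (col b j) = col c j := by
  unfold eqMul at h
  simp only [Bool.and_eq_true, Nat.beq_eq] at h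
  obtain ⟨h0, h1, h2, h3, h4, h5, h6, h7, h8⟩ := h
  intro j hj
  interval_cases j
  exacts [h0, h1, h2, h3, h4, h5, h6, h7, h8]

theorem eqMul3_spec {a b c d : ℕ} (h : eqMul3 a b c d = true) :
    ∀ j < 9, appC a (col b j) = appC c (col d j) := by
  unfold eqMul3 at h
  simp only [Bool.and_eq_true, Nat.beq_eq] at h
  obtain ⟨h0, h1, h2, h3, h4, h5, h6, h7, h8⟩ := h
  intro j hj
  interval_cases j
  exacts [h0, h1, h2, h3, h4, h5, h6, h7, h8]

/-- minimum. -/
def mn (a b : ℕ) : ℕ := cond (Nat.ble a b) a b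

/-- a canonical multiple of a vector code. -/
def nrm (x : ℕ) : ℕ := mn x (mn (wmul x) (wmul (wmul x)))

section field
variable {F : Type*} [Field F] (h2 : (2 : F) = 0) (ω : F) (hω : ω ^ 2 + ω + 1 = 0)
include h2 hω

theorem decM_mul_apply (a b : ℕ) (w z : F9) :
    (decM ω a * decM ω b) w z = decV ω (appC a (col b (ix z))) w := by
  have h := congrFun (decM_mulVec h2 ω hω a (col b (ix z))) w
  rw [← h]
  rfl

theorem eqMul_sound {a b c : ℕ} (h : eqMul a b c = true) : decM ω a * decM ω b = decM ω c := by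
  ext w z
  rw [decM_mul_apply h2 ω hω, eqMul_spec h _ (ix_lt z)]
  rfl

theorem eqMul3_sound {a b c d : ℕ} (h : eqMul3 a b c d = true) :
    decM ω a * decM ω b = decM ω c * decM ω d := by
  ext w z
  rw [decM_mul_apply h2 ω hω, decM_mul_apply h2 ω hω, eqMul3_spec h _ (ix_lt z)]

omit h2 in
theorem omega_ne : ω ≠ 0 ∧ ω ≠ 1 ∨ (3 : F) = 0 := by
  by_cases h3 : (3 : F) = 0
  · exact Or.inr h3
  · left
    constructor
    · rintro rfl
      simp at hω
    · rintro rfl
      apply h3
      linear_combination hω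

theorem b2_inj (a b a' b' : Bool) (h : (b2 a : F) + b2 b * ω = b2 a' + b2 b' * ω) : a = a' ∧ b = b' := by
  have h3 : (3 : F) ≠ 0 := by
    intro h3
    have : (1 : F) = 0 := by linear_combination h3 - h2
    exact one_ne_zero this
  have hw0 : ω ≠ 0 := by
    rintro rfl
    simp at hω
  have hw1 : ω ≠ 1 := by
    rintro rfl
    apply h3
    linear_combination hω
  have hw1' : (1 : F) + ω ≠ 0 := by
    intro h
    apply hw1
    linear_combination h - h2
  cases a <;> cases b <;> cases a' <;> cases b' <;> simp [b2] at h ⊢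
  all_goals first
    | exact hw0 h
    | exact hw0 h.symm
    | exact hw1 h
    | exact hw1 h.symm
    | exact hw1' h
    | exact hw1' h.symm

theorem decV_inj {a b : ℕ} (ha : a < 2 ^ 18) (hb : b < 2 ^ 18) (h : decV ω a = decV ω b) : a = b := by
  apply Nat.eq_of_testBit_eq
  intro n
  by_cases hn : n < 18
  · have key : ∀ z : F9, a.testBit (ix z) = b.testBit (ix z) ∧ a.testBit (ix z + 9) = b.testBit (ix z + 9) :=
      fun z => b2_inj h2 ω hω _ _ _ _ (congrFun h z)
    have hsurj : ∀ r < 9, ∃ z : F9, ix z = r := by decide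
    by_cases hn9 : n < 9
    · obtain ⟨z, hz⟩ := hsurj n hn9
      rw [← hz]
      exact (key z).1
    · obtain ⟨z, hz⟩ := hsurj (n - 9) (by omega)
      have : n = ix z + 9 := by omega
      rw [this]
      exact (key z).2
  · have hp : 2 ^ 18 ≤ 2 ^ n := Nat.pow_le_pow_right (by norm_num) (by omega)
    rw [Nat.testBit_lt_two_pow (lt_of_lt_of_le ha hp), Nat.testBit_lt_two_pow (lt_of_lt_of_le hb hp)]

theorem decM_inj {a b : ℕ} (ha : a < 2 ^ 162) (hb : b < 2 ^ 162) (h : decM ω a = decM ω b) : a = b := by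
  have hcol : ∀ j < 9, col a j = col b j := by
    intro j hj
    have hsurj : ∀ r < 9, ∃ z : F9, ix z = r := by decide
    obtain ⟨z, hz⟩ := hsurj j hj
    apply decV_inj h2 ω hω (col_lt _ _) (col_lt _ _)
    ext w
    have := congrFun (congrFun h w) z
    simpa [decM, hz] using this
  apply Nat.eq_of_testBit_eq
  intro n
  by_cases hn : n < 162
  · have h1 := congrArg (fun x => x.testBit (n % 18)) (hcol (n / 18) (by omega))
    have e : (262143 : ℕ) = 2 ^ 18 - 1 := by norm_num
    have hlt : n % 18 < 18 := Nat.mod_lt _ (by norm_num)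
    simp only [col, land_eq, shr_eq, mul_eq', Nat.testBit_and, Nat.testBit_shiftRight, e,
      Nat.testBit_two_pow_sub_one, hlt, decide_true, Bool.and_true, Nat.div_add_mod] at h1
    exact h1
  · have hp : 2 ^ 162 ≤ 2 ^ n := Nat.pow_le_pow_right (by norm_num) (by omega)
    rw [Nat.testBit_lt_two_pow (lt_of_lt_of_le ha hp), Nat.testBit_lt_two_pow (lt_of_lt_of_le hb hp)]

end field

end Cfsg.Agent.Lib.Helper10.J3
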