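import Mathlib
import Cfsg.Prelude.Def_Spor_J3

/-!
Coding of vectors and matrices of the 9-space over the field with four elements by natural numbers
(two bit planes of nine bits for a vector, nine columns of eighteen bits for a matrix).
-/

set_option autoImplicit false

namespace Cfsg.Agent.Lib.Helper10.J3

open Cfsg.Spor Matrix

/-- multiplication of a vector code by `ω`. -/
def wmul (x : ℕ) : ℕ :=
  Nat.xor (Nat.shiftRight x 9) (Nat.shiftLeft (Nat.xor (Nat.land x 511) (Nat.shiftRight x 9)) 9)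

/-- the `j`-th column of a matrix code. -/
def col (M j : ℕ) : ℕ := Nat.land (Nat.shiftRight M (Nat.mul 18 j)) 262143

/-- the `j`-th bit as a number. -/
def bt (x j : ℕ) : ℕ := Nat.land (Nat.shiftRight x j) 1

/-- the combination of the columns selected by the nine low bits of `x`. -/
def appL (M x : ℕ) : ℕ :=
  Nat.xor (Nat.mul (bt x 0) (col M 0)) (Nat.xor (Nat.mul (bt x 1) (col M 1))
  (Nat.xor (Nat.mul (bt x 2) (col M 2)) (Nat.xor (Nat.mul (bt x 3) (col M 3))
  (Nat.xor (Nat.mul (bt x 4) (col M 4)) (Nat.xor (Nat.mul (bt x 5) (col M 5))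
  (Nat.xor (Nat.mul (bt x 6) (col M 6)) (Nat.xor (Nat.mul (bt x 7) (col M 7))
  (Nat.mul (bt x 8) (col M 8)))))))))

/-- matrix times vector on codes. -/
def appC (M v : ℕ) : ℕ := Nat.xor (appL M v) (wmul (appL M (Nat.shiftRight v 9)))

theorem xor_eq (a b : ℕ) : Nat.xor a b = a ^^^ b := rfl
theorem land_eq (a b : ℕ) : Nat.land a b = a &&& b := rfl
theorem shr_eq (a b : ℕ) : Nat.shiftRight a b = a >>> b := rfl
theorem shl_eq (a b : ℕ) : Nat.shiftLeft a b = a <<< b := rfl
theorem mul_eq' (a b : ℕ) : Nat.mul a b = a * b := rfl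

theorem col_lt (M j : ℕ) : col M j < 2 ^ 18 := by
  unfold col
  rw [land_eq]
  exact Nat.and_lt_two_pow _ (by norm_num)

theorem bt_eq (x j : ℕ) : bt x j = (x.testBit j).toNat := by
  unfold bt
  rw [land_eq, shr_eq, Nat.and_one_is_mod, Nat.shiftRight_eq_div_pow, Nat.toNat_testBit]

theorem bt_mul_lt (x j c : ℕ) (hc : c < 2 ^ 18) : Nat.mul (bt x j) c < 2 ^ 18 := by
  rw [mul_eq', bt_eq]
  cases x.testBit j
  · simp
  · simpa using hc

theorem appL_lt (M x : ℕ) : appL M x < 2 ^ 18 := by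
  unfold appL
  simp only [xor_eq]
  have h := fun j => bt_mul_lt x j (col M j) (col_lt M j)
  repeat' apply Nat.xor_lt_two_pow
  all_goals apply h

theorem wmul_lt (x : ℕ) (hx : x < 2 ^ 18) : wmul x < 2 ^ 18 := by
  unfold wmul
  simp only [xor_eq, land_eq, shr_eq, shl_eq]
  apply Nat.xor_lt_two_pow
  · rw [Nat.shiftRight_eq_div_pow]
    exact lt_of_le_of_lt (Nat.div_le_self _ _) hx
  · rw [Nat.shiftLeft_eq]
    have h1 : x &&& 511 < 2 ^ 9 := Nat.and_lt_two_pow _ (by norm_num)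
    have h2 : x >>> 9 < 2 ^ 9 := by
      rw [Nat.shiftRight_eq_div_pow]
      apply Nat.div_lt_of_lt_mul
      calc x < 2 ^ 18 := hx
        _ = 2 ^ 9 * 2 ^ 9 := by norm_num
    have h3 := Nat.xor_lt_two_pow h1 h2
    calc (x &&& 511 ^^^ x >>> 9) * 2 ^ 9 < 2 ^ 9 * 2 ^ 9 := Nat.mul_lt_mul_of_pos_right h3 (by norm_num)
      _ = 2 ^ 18 := by norm_num

theorem appC_lt (M v : ℕ) : appC M v < 2 ^ 18 := by
  unfold appC
  rw [xor_eq]
  exact Nat.xor_lt_two_pow (appL_lt _ _) (wmul_lt _ (appL_lt _ _))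

/-- the position of an index. -/
def ix (z : F9) : ℕ := 3 * z.1.val + z.2.val

theorem ix_lt (z : F9) : ix z < 9 := by
  have h1 := ZMod.val_lt z.1
  have h2 := ZMod.val_lt z.2
  unfold ix
  omega

theorem ix_injective : Function.Injective ix := by decide

section field
variable {F : Type*} [Field F]

/-- a bit as a field element. -/
def b2 (b : Bool) : F := if b then 1 else 0

/-- the vector of a code. -/
def decV (ω : F) (v : ℕ) : F9 → F :=
  fun z => b2 (v.testBit (ix z)) + b2 (v.testBit (ix z + 9)) * ω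

/-- the matrix of a code. -/
def decM (ω : F) (M : ℕ) : Matrix F9 F9 F := Matrix.of fun w z => decV ω (col M (ix z)) w

theorem sum_F9 {A : Type*} [AddCommMonoid A] (f : F9 → A) :
    ∑ z, f z = f (0, 0) + f (0, 1) + f (0, 2) + f (1, 0) + f (1, 1) + f (1, 2) + f (2, 0) + f (2, 1) + f (2, 2) := by
  rw [Fintype.sum_prod_type]
  have h3 : ∀ g : ZMod 3 → A, ∑ x, g x = g 0 + g 1 + g 2 := fun g => Fin.sum_univ_three g
  simp only [h3]
  abel

variable (h2 : (2 : F) = 0)
include h2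

theorem b2_xor (a b : Bool) : (b2 (a ^^ b) : F) = b2 a + b2 b := by
  have h : (1 : F) + 1 = 0 := by rw [one_add_one_eq_two, h2]
  cases a <;> cases b <;> simp [b2, h]

theorem decV_xor (ω : F) (a b : ℕ) : decV ω (Nat.xor a b) = decV ω a + decV ω b := by
  ext z
  simp only [decV, xor_eq, Nat.testBit_xor, b2_xor h2, Pi.add_apply]
  ring

omit h2 in
theorem decV_bt_mul (ω : F) (x j c : ℕ) :
    decV ω (Nat.mul (bt x j) c) = (b2 (x.testBit j) : F) • decV ω c := by
  rw [mul_eq', bt_eq]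
  cases x.testBit j
  · ext z; simp [decV, b2]
  · ext z; simp [decV, b2]

theorem decV_wmul (ω : F) (hω : ω ^ 2 + ω + 1 = 0) (c : ℕ) (hc : c < 2 ^ 18) :
    decV ω (wmul c) = ω • decV ω c := by
  ext z
  have hr := ix_lt z
  have e511 : (511 : ℕ) = 2 ^ 9 - 1 := by norm_num
  have hz : c.testBit (9 + (ix z + 9)) = false := by
    apply Nat.testBit_lt_two_pow
    calc c < 2 ^ 18 := hc
      _ ≤ 2 ^ (9 + (ix z + 9)) := Nat.pow_le_pow_right (by norm_num) (by omega)
  have h1 : (wmul c).testBit (ix z) = c.testBit (ix z + 9) := by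
    unfold wmul
    simp only [xor_eq, land_eq, shr_eq, shl_eq, Nat.testBit_xor, Nat.testBit_shiftRight,
      Nat.testBit_shiftLeft]
    have : ¬ (ix z ≥ 9) := by omega
    simp [this, add_comm]
  have h3 : (wmul c).testBit (ix z + 9) = (c.testBit (ix z) ^^ c.testBit (ix z + 9)) := by
    unfold wmul
    simp only [xor_eq, land_eq, shr_eq, shl_eq, Nat.testBit_xor, Nat.testBit_shiftRight,
      Nat.testBit_shiftLeft, Nat.testBit_and, hz, e511, Nat.testBit_two_pow_sub_one]
    simp [hr, add_comm]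
  simp only [decV, h1, h3, b2_xor h2, Pi.smul_apply, smul_eq_mul]
  linear_combination (b2 (c.testBit (ix z + 9)) : F) * hω - (b2 (c.testBit (ix z + 9)) * ω ^ 2) * h2

theorem decV_appL (ω : F) (M x : ℕ) :
    decV ω (appL M x) = (b2 (x.testBit 0) : F) • decV ω (col M 0) + (b2 (x.testBit 1) : F) • decV ω (col M 1)
      + (b2 (x.testBit 2) : F) • decV ω (col M 2) + (b2 (x.testBit 3) : F) • decV ω (col M 3)
      + (b2 (x.testBit 4) : F) • decV ω (col M 4) + (b2 (x.testBit 5) : F) • decV ω (col M 5)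
      + (b2 (x.testBit 6) : F) • decV ω (col M 6) + (b2 (x.testBit 7) : F) • decV ω (col M 7)
      + (b2 (x.testBit 8) : F) • decV ω (col M 8) := by
  unfold appL
  simp only [decV_xor h2, decV_bt_mul]
  abel

theorem decM_mulVec (ω : F) (hω : ω ^ 2 + ω + 1 = 0) (M v : ℕ) :
    decM ω M *ᵥ decV ω v = decV ω (appC M v) := by
  unfold appC
  rw [decV_xor h2, decV_wmul h2 ω hω _ (appL_lt _ _), decV_appL h2, decV_appL h2]
  ext w
  simp only [Matrix.mulVec, dotProduct, sum_F9, decM, Matrix.of_apply, Pi.add_apply, Pi.smul_apply,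
    smul_eq_mul, shr_eq, Nat.testBit_shiftRight]
  have e0 : ix (0, 0) = 0 := rfl
  have e1 : ix (0, 1) = 1 := rfl
  have e2 : ix (0, 2) = 2 := rfl
  have e3 : ix (1, 0) = 3 := rfl
  have e4 : ix (1, 1) = 4 := rfl
  have e5 : ix (1, 2) = 5 := rfl
  have e6 : ix (2, 0) = 6 := rfl
  have e7 : ix (2, 1) = 7 := rfl
  have e8 : ix (2, 2) = 8 := rfl
  have hv : ∀ z, decV ω v z = b2 (v.testBit (ix z)) + b2 (v.testBit (ix z + 9)) * ω := fun z => rfl
  simp only [hv, e0, e1, e2, e3, e4, e5, e6, e7, e8, Nat.reduceAdd]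
  ring

end field

end Cfsg.Agent.Lib.Helper10.J3
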