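import Cfsg.Agent.Lib.Helper10.J3.DataT
import Cfsg.Agent.Lib.Helper10.J3.DataH

/-!
The checks of the coset table of the triple cover of the third Janko group.
-/

set_option autoImplicit false

namespace Cfsg.Agent.Lib.Helper10.J3

def nT : ℕ := 23256
def nH : ℕ := 6480
def jid : ℕ := 324
def gI (k : ℕ) : ℕ := cond (Nat.beq k 0) 1865 2737
def sC (k : ℕ) : ℕ := cond (Nat.beq k 0) uC vC

def tI (i k : ℕ) : ℕ := Nat.land (dTab (Nat.add (Nat.mul 2 i) k)) 32767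
def tJ (i k : ℕ) : ℕ := Nat.shiftRight (dTab (Nat.add (Nat.mul 2 i) k)) 15

def chkT (i k : ℕ) : Bool :=
  Nat.blt (tI i k) nT && (Nat.blt (tJ i k) nH &&
    cond (Nat.beq (tJ i k) jid) (eqMul (sC k) (dT i) (dT (tI i k)))
      (eqMul3 (sC k) (dT i) (dT (tI i k)) (dH (tJ i k))))

def pP (i : ℕ) : ℕ := Nat.land (dPar i) 32767
def pK (i : ℕ) : ℕ := Nat.land (Nat.shiftRight (dPar i) 15) 1
def pD (i : ℕ) : ℕ := Nat.shiftRight (dPar i) 16

def chkTree (i : ℕ) : Bool :=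
  Nat.beq i 0 || (Nat.blt (pP i) nT && (Nat.beq (tI (pP i) (pK i)) i &&
    (Nat.beq (tJ (pP i) (pK i)) jid && Nat.blt (pD (pP i)) (pD i))))

def yL (i : ℕ) : ℕ := nrm (col (dT i) 0)

def chkY (i : ℕ) : Bool :=
  Nat.beq (nrm (appC (dT i) 1)) (yL i) && (Nat.beq (nrm (appC (dT i) 512)) (yL i) &&
    (Nat.beq (nrm (appC (dT i) 513)) (yL i) && (Nat.ble nT (Nat.succ i) || Nat.blt (yL i) (yL (Nat.succ i)))))

def chkTall (i : ℕ) : Bool := Nat.ble nT i || (chkT i 0 && (chkT i 1 && (chkTree i && chkY i)))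

def hJ (j k : ℕ) : ℕ := dHtab (Nat.add (Nat.mul 2 j) k)

def chkH (j k : ℕ) : Bool := Nat.blt (hJ j k) nH && eqMul (dH (gI k)) (dH j) (dH (hJ j k))

def qP (j : ℕ) : ℕ := Nat.land (dHpar j) 8191
def qK (j : ℕ) : ℕ := Nat.land (Nat.shiftRight (dHpar j) 13) 1
def qD (j : ℕ) : ℕ := Nat.shiftRight (dHpar j) 14

def chkHtree (j : ℕ) : Bool :=
  Nat.beq j jid || (Nat.blt (qP j) nH && (Nat.beq (hJ (qP j) (qK j)) j && Nat.blt (qD (qP j)) (qD j)))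

def chkH0 (j : ℕ) : Bool :=
  (Nat.beq (col (dH j) 0) 1 || (Nat.beq (col (dH j) 0) 512 || Nat.beq (col (dH j) 0) 513)) &&
    (Nat.ble nH (Nat.succ j) || Nat.blt (dH j) (dH (Nat.succ j)))

def chkHall (j : ℕ) : Bool := Nat.ble nH j || (chkH j 0 && (chkH j 1 && (chkHtree j && chkH0 j)))

end Cfsg.Agent.Lib.Helper10.J3
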