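import Cfsg.Agent.Lib.Helper10.J3.Defs
import Cfsg.Agent.Lib.Helper10.J3.DataY
import Cfsg.Agent.Lib.Helper10.J3.DataC

/-!
Boolean checks for the class of involutions, the centraliser of an involution and a Sylow 2-subgroup of the triple
cover of the third Janko group.
-/

set_option autoImplicit false

namespace Cfsg.Agent.Lib.Helper10.J3

/-! the class of involutions -/
def yP (m : ℕ) : ℕ := Nat.land (dYp m) 32767
def yK (m : ℕ) : ℕ := Nat.land (Nat.shiftRight (dYp m) 15) 1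
def yD (m : ℕ) : ℕ := Nat.shiftRight (dYp m) 16

def chkYc (m : ℕ) : Bool :=
  Nat.ble nY m ||
    ((Nat.beq m mz || (Nat.blt (yP m) nY && (Nat.blt (yD (yP m)) (yD m) &&
        eqMul3 (sC (yK m)) (dY (yP m)) (dY m) (sC (yK m))))) &&
      (Nat.ble nY (Nat.succ m) || Nat.blt (dY m) (dY (Nat.succ m))))

/-! the centraliser -/
def cG (k : ℕ) : ℕ := cond (Nat.beq k 0) cg0 cg1
def cT (j k : ℕ) : ℕ := Nat.land (Nat.shiftRight (dCt j) (Nat.mul 13 k)) 8191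
def cP (j : ℕ) : ℕ := Nat.land (dCp j) 8191
def cK (j : ℕ) : ℕ := Nat.land (Nat.shiftRight (dCp j) 13) 1
def cD (j : ℕ) : ℕ := Nat.shiftRight (dCp j) 14

def chkC1 (j : ℕ) : Bool :=
  (Nat.blt (cT j 0) nC && eqMul (dC (cG 0)) (dC j) (dC (cT j 0))) &&
  ((Nat.blt (cT j 1) nC && eqMul (dC (cG 1)) (dC j) (dC (cT j 1))) &&
  ((Nat.beq j jidC || (Nat.blt (cP j) nC && (Nat.beq (cT (cP j) (cK j)) j && Nat.blt (cD (cP j)) (cD j)))) &&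
  (Nat.ble nC (Nat.succ j) || Nat.blt (dC j) (dC (Nat.succ j)))))

def jW (a : ℕ) : ℕ := cond (Nat.beq a 0) jidC (cond (Nat.beq a 1) jw1 jw2)
def jN (e : ℕ) : ℕ := cond (Nat.beq e 0) jidC (cond (Nat.beq e 1) jn1 jn2)
def jZ (e : ℕ) : ℕ := cond (Nat.beq e 0) jidC jz
def sG (k : ℕ) : ℕ := cond (Nat.beq k 0) sg0 (cond (Nat.beq k 1) sg1 sg2)
def sI (b : ℕ) : ℕ := Nat.land (dSi b) 8191
def qI (t : ℕ) : ℕ := Nat.land (dQi t) 8191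

def iTagS (j : ℕ) : ℕ := Nat.land (dCi j) 1
def iTagN (j : ℕ) : ℕ := Nat.land (Nat.shiftRight (dCi j) 1) 1
def iFN (j : ℕ) : ℕ := Nat.land (Nat.shiftRight (dCi j) 2) 65535
def iTagZ (j : ℕ) : ℕ := Nat.land (Nat.shiftRight (dCi j) 18) 1
def iFZ (j : ℕ) : ℕ := Nat.land (Nat.shiftRight (dCi j) 19) 31

def chkN (j : ℕ) : Bool :=
  cond (Nat.beq (iTagN j) 1)
    (eqMul3 (dC (jW (Nat.land (iFN j) 3))) (dC j) (dC (sI (Nat.land (Nat.shiftRight (iFN j) 2) 127)))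
      (dC (jN (Nat.shiftRight (iFN j) 9))))
    (Nat.blt (Nat.shiftRight (iFN j) 3) nC && (Nat.beq (iTagS (Nat.shiftRight (iFN j) 3)) 0 &&
      eqMul3 (dC j) (dC (sI (sG (Nat.land (iFN j) 7)))) (dC (Nat.shiftRight (iFN j) 3)) (dC j)))

def chkZ (j : ℕ) : Bool :=
  cond (Nat.beq (iTagZ j) 1)
    (eqMul (dC (jW (Nat.land (iFZ j) 3))) (dC j) (dC (jZ (Nat.shiftRight (iFZ j) 2))))
    (!(eqMul3 (dC j) (dC (qI (iFZ j))) (dC (qI (iFZ j))) (dC j)))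

def chkCall (j : ℕ) : Bool := Nat.ble nC j || (chkC1 j && (chkN j && chkZ j))

/-! the Sylow subgroup -/
def sT (b k : ℕ) : ℕ := Nat.land (Nat.shiftRight (dSi b) (Nat.add 13 (Nat.mul 7 k))) 127
def sP (b : ℕ) : ℕ := Nat.land (Nat.shiftRight (dSi b) 34) 127
def sK (b : ℕ) : ℕ := Nat.land (Nat.shiftRight (dSi b) 41) 3
def sDp (b : ℕ) : ℕ := Nat.land (Nat.shiftRight (dSi b) 43) 15
def sW (b : ℕ) : ℕ := Nat.land (Nat.shiftRight (dSi b) 47) 3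
def sY (b : ℕ) : ℕ := Nat.shiftRight (dSi b) 49

def chkS (b : ℕ) : Bool :=
  (Nat.blt (sI b) nC && Nat.beq (iTagS (sI b)) 1) &&
  (eqMul (dC (sI (sG 0))) (dC (sI b)) (dC (sI (sT b 0))) &&
  (eqMul (dC (sI (sG 1))) (dC (sI b)) (dC (sI (sT b 1))) &&
  (eqMul (dC (sI (sG 2))) (dC (sI b)) (dC (sI (sT b 2))) &&
  ((Nat.beq b bid || (Nat.beq (sT (sP b) (sK b)) b && (Nat.blt (sDp (sP b)) (sDp b) && Nat.blt (sK b) 3))) &&
  ((Nat.ble 128 (Nat.succ b) || Nat.blt (sI b) (sI (Nat.succ b))) &&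
  ((Nat.beq b bid || (Nat.beq b bz ||
      !(eqMul3 (dC (sI b)) (dC (sI (sG (sW b)))) (dC (sI (sG (sW b)))) (dC (sI b))))) &&
  (Nat.beq b bid || (!(eqMul (dC (sI b)) (dC (sI b)) (dC jidC)) ||
      (Nat.blt (sY b) nY && Nat.beq (dY (sY b)) (dC (sI b)))))))))))

/-! the normal subgroup of order 32 -/
def qN (t k : ℕ) : ℕ := Nat.land (Nat.shiftRight (dQi t) (Nat.add 13 (Nat.mul 5 k))) 31
def qB (t : ℕ) : ℕ := Nat.land (Nat.shiftRight (dQi t) 23) 127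

def chkQ (t : ℕ) : Bool :=
  Nat.beq (sI (qB t)) (qI t) &&
  (eqMul3 (dC (cG 0)) (dC (qI t)) (dC (qI (qN t 0))) (dC (cG 0)) &&
   eqMul3 (dC (cG 1)) (dC (qI t)) (dC (qI (qN t 1))) (dC (cG 1)))

def nSg (k : ℕ) : ℕ := cond (Nat.beq k 0) ns0 (cond (Nat.beq k 1) ns1 ns2)

def chkMisc : Bool :=
  Nat.beq (dC jidC) idC && (Nat.beq (dY mz) (dC jz) && (Nat.beq (sI bz) jz && (Nat.beq (sI bid) jidC &&
  (Nat.beq (qI tz) jz &&
  (eqMul3 (dC (cG 0)) (dC jz) (dC jz) (dC (cG 0)) && (eqMul3 (dC (cG 1)) (dC jz) (dC jz) (dC (cG 1)) &&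
  (eqMul (dC jx1) (dC jx1) (dC jidC) && (eqMul (dC jx2) (dC jx2) (dC jidC) && (eqMul (dC jx1) (dC jx2) (dC jn1) &&
  (eqMul (dC jn1) (dC jn1) (dC jn2) &&
  (eqMul3 (dC jn1) (dC (sI (sG 0))) (dC (sI (nSg 0))) (dC jn1) &&
  (eqMul3 (dC jn1) (dC (sI (sG 1))) (dC (sI (nSg 1))) (dC jn1) &&
  (eqMul3 (dC jn1) (dC (sI (sG 2))) (dC (sI (nSg 2))) (dC jn1) &&
  (eqMul (dT lt0) (dH lh0) (dC (cG 0)) && eqMul (dT lt1) (dH lh1) (dC (cG 1))))))))))))))))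

end Cfsg.Agent.Lib.Helper10.J3
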