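import Cfsg.Agent.Lib.Helper10.J3.Tab
import Cfsg.Agent.Lib.Helper10.J3.Check

/-!
Enumeration of a subgroup generated by finitely many elements from a verified multiplication table, and the converse
of the soundness of the Boolean checks.
-/

set_option autoImplicit false

namespace Cfsg.Agent.Lib.Helper10.J3

open Cfsg.Spor Matrix

structure Enum {G M : Type*} [Group G] [Monoid M] (μ : G →* M) (s : ℕ → G) (r : ℕ) (η : ℕ → M) (n jid : ℕ) :
    Prop where
  tab : ∀ j < n, ∀ k < r, ∃ j' < n, μ (s k) * η j = η j'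
  one : η jid = 1
  jid_lt : jid < n
  tree : ∃ dep : ℕ → ℕ, ∀ j < n, j ≠ jid → ∃ p < n, ∃ k < r, dep p < dep j ∧ μ (s k) * η p = η j

namespace Enum

variable {G M : Type*} [Group G] [Monoid M] {μ : G →* M} {s : ℕ → G} {r : ℕ} {η : ℕ → M} {n jid : ℕ}

theorem mem_list [Finite G] (D : Enum μ s r η n jid) :
    ∀ x ∈ Subgroup.closure {x : G | ∃ k < r, x = s k}, ∃ j < n, μ x = η j := by
  apply closure_subset_of_finite {x : G | ∃ k < r, x = s k} {x : G | ∃ j < n, μ x = η j} (Set.toFinite _)
  · exact ⟨jid, D.jid_lt, by rw [map_one, D.one]⟩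
  · rintro t ⟨k, hk, rfl⟩ x ⟨j, hj, hx⟩
    obtain ⟨j', hj', he⟩ := D.tab j hj k hk
    exact ⟨j', hj', by rw [map_mul, hx, he]⟩

theorem list_mem (D : Enum μ s r η n jid) :
    ∀ j < n, ∃ x ∈ Subgroup.closure {x : G | ∃ k < r, x = s k}, μ x = η j := by
  obtain ⟨dep, hdep⟩ := D.tree
  have key : ∀ d j, dep j = d → j < n → ∃ x ∈ Subgroup.closure {x : G | ∃ k < r, x = s k}, μ x = η j := by
    intro d
    induction d using Nat.strong_induction_on with
    | _ d ih =>
      intro j hjd hj
      by_cases hj0 : j = jid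
      · exact ⟨1, Subgroup.one_mem _, by rw [hj0, D.one, map_one]⟩
      · obtain ⟨p, hp, k, hk, hlt, he⟩ := hdep j hj hj0
        obtain ⟨x, hx, hxe⟩ := ih (dep p) (hjd ▸ hlt) p rfl hp
        exact ⟨s k * x, Subgroup.mul_mem _ (Subgroup.subset_closure ⟨k, hk, rfl⟩) hx, by rw [map_mul, hxe, he]⟩
  intro j hj
  exact key _ j rfl hj

theorem card [Finite G] (D : Enum μ s r η n jid) (hμ : Function.Injective μ)
    (hη : ∀ j < n, ∀ j' < n, η j = η j' → j = j') :
    Nat.card (Subgroup.closure {x : G | ∃ k < r, x = s k}) = n := by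
  have hex : ∀ q : Fin n, ∃ x : Subgroup.closure {x : G | ∃ k < r, x = s k}, μ (x : G) = η q := by
    intro q
    obtain ⟨x, hx, he⟩ := D.list_mem q q.2
    exact ⟨⟨x, hx⟩, he⟩
  choose f hf using hex
  have hb : Function.Bijective f := by
    constructor
    · intro q q' h
      have h1 := hf q
      rw [h, hf q'] at h1
      exact (Fin.ext (hη _ q'.2 _ q.2 h1)).symm
    · intro x
      obtain ⟨j, hj, he⟩ := D.mem_list x x.2
      refine ⟨⟨j, hj⟩, ?_⟩
      apply Subtype.ext
      apply hμ
      rw [hf, he]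
  rw [← Nat.card_eq_of_bijective f hb, Nat.card_fin]

end Enum

section field
variable {F : Type*} [Field F] (h2 : (2 : F) = 0) (ω : F) (hω : ω ^ 2 + ω + 1 = 0)
include h2 hω

theorem eqMul3_complete {a b c d : ℕ} (h : decM ω a * decM ω b = decM ω c * decM ω d) :
    eqMul3 a b c d = true := by
  have key : ∀ j < 9, appC a (col b j) = appC c (col d j) := by
    intro j hj
    have hsurj : ∀ r < 9, ∃ z : F9, ix z = r := by decide
    obtain ⟨z, hz⟩ := hsurj j hj
    apply decV_inj h2 ω hω (appC_lt _ _) (appC_lt _ _)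
    ext w
    have := congrFun (congrFun h w) z
    rw [decM_mul_apply h2 ω hω, decM_mul_apply h2 ω hω, hz] at this
    exact this
  unfold eqMul3
  simp only [Bool.and_eq_true, Nat.beq_eq]
  exact ⟨key 0 (by norm_num), key 1 (by norm_num), key 2 (by norm_num), key 3 (by norm_num), key 4 (by norm_num),
    key 5 (by norm_num), key 6 (by norm_num), key 7 (by norm_num), key 8 (by norm_num)⟩

theorem eqMul_complete {a b c : ℕ} (h : decM ω a * decM ω b = decM ω c) : eqMul a b c = true := by
  have key : ∀ j < 9, appC a (col b j) = col c j := by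
    intro j hj
    have hsurj : ∀ r < 9, ∃ z : F9, ix z = r := by decide
    obtain ⟨z, hz⟩ := hsurj j hj
    apply decV_inj h2 ω hω (appC_lt _ _) (col_lt _ _)
    ext w
    have := congrFun (congrFun h w) z
    rw [decM_mul_apply h2 ω hω, hz] at this
    rw [this, ← hz]
    rfl
  unfold eqMul
  simp only [Bool.and_eq_true, Nat.beq_eq]
  exact ⟨key 0 (by norm_num), key 1 (by norm_num), key 2 (by norm_num), key 3 (by norm_num), key 4 (by norm_num),
    key 5 (by norm_num), key 6 (by norm_num), key 7 (by norm_num), key 8 (by norm_num)⟩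

end field

end Cfsg.Agent.Lib.Helper10.J3
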