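import Cfsg.Agent.Lib.Helper10.J3.VC
import Cfsg.Agent.Lib.Helper10.J3.VY0
import Cfsg.Agent.Lib.Helper10.J3.VY1
import Cfsg.Agent.Lib.Helper10.J3.FusEnum
import Cfsg.Agent.Lib.Helper10.J3.Center

/-!
Meaning of the Boolean checks: the centraliser of an involution and a Sylow 2-subgroup of the triple cover of the
third Janko group as lists of matrix codes.
-/

set_option autoImplicit false

namespace Cfsg.Agent.Lib.Helper10.J3

open Cfsg.Spor Matrix

theorem vsg : (eqMul (dC (sI (sG 0))) (dC (sI (sG 0))) (dC jidC) &&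
    (eqMul (dC (sI (sG 1))) (dC (sI (sG 1))) (dC jidC) &&
      eqMul (dC (sI (sG 2))) (dC (sI (sG 2))) (dC jidC))) = true := by decide +kernel
theorem jw1_ok : dC jw1 = wC := by decide +kernel

theorem chkC_all : ∀ j < nC, chkC1 j = true ∧ chkN j = true ∧ chkZ j = true := by
  intro j hj
  have hj' : j < 5760 := hj
  have h : chkCall j = true := allB_spec 13 0 _ vc j (by omega) (by norm_num; omega)
  unfold chkCall at h
  rw [Bool.or_eq_true] at h
  rcases h with h | h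
  · rw [Nat.ble_eq] at h
    exact absurd hj (not_lt.mpr h)
  · simp only [Bool.and_eq_true] at h
    exact ⟨h.1, h.2.1, h.2.2⟩

theorem chkS_all : ∀ b < 128, chkS b = true :=
  fun b hb => allB_spec 7 0 _ vs b (by omega) (by norm_num; omega)

theorem chkQ_all : ∀ t < 32, chkQ t = true :=
  fun t ht => allB_spec 5 0 _ vq t (by omega) (by norm_num; omega)

theorem chkY_all : ∀ m < nY, (m = mz ∨ (yP m < nY ∧ yD (yP m) < yD m ∧
    eqMul3 (sC (yK m)) (dY (yP m)) (dY m) (sC (yK m)) = true)) ∧ (nY ≤ m + 1 ∨ dY m < dY (m + 1)) := by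
  intro m hm
  have hm' : m < 26163 := hm
  have h : chkYc m = true := by
    rcases lt_or_ge m 16384 with h0 | h0
    · exact allB_spec 14 0 _ vy0 m (by omega) (by norm_num; omega)
    · exact allB_spec 14 16384 _ vy1 m (by omega) (by norm_num; omega)
  unfold chkYc at h
  rw [Bool.or_eq_true] at h
  rcases h with h | h
  · rw [Nat.ble_eq] at h
    exact absurd hm (not_lt.mpr h)
  · simp only [Bool.and_eq_true, Bool.or_eq_true, Nat.beq_eq, Nat.blt_eq, Nat.ble_eq] at h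
    exact h

theorem dC_inj : ∀ i < nC, ∀ j < nC, dC i = dC j → i = j := by
  apply inj_of_step
  intro i hi
  have h := (chkC_all i (by omega)).1
  unfold chkC1 at h
  simp only [Bool.and_eq_true, Bool.or_eq_true, Nat.ble_eq, Nat.blt_eq] at h
  rcases h.2.2.2 with h | h
  · exact absurd hi (not_lt.mpr h)
  · exact h

theorem dY_inj : ∀ i < nY, ∀ j < nY, dY i = dY j → i = j := by
  apply inj_of_step
  intro i hi
  rcases (chkY_all i (by omega)).2 with h | h
  · exact absurd hi (not_lt.mpr h)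
  · exact h

theorem dC_lt (j : ℕ) : dC j < 2 ^ 162 := by
  unfold dC look
  rw [land_eq]
  exact Nat.and_lt_two_pow _ (by norm_num)

theorem dY_lt (j : ℕ) : dY j < 2 ^ 162 := by
  unfold dY look
  rw [land_eq]
  exact Nat.and_lt_two_pow _ (by norm_num)

theorem land_lt (x : ℕ) (k : ℕ) : Nat.land x (2 ^ k - 1) < 2 ^ k := by
  rw [land_eq]
  exact Nat.and_lt_two_pow _ (by
    have : 0 < 2 ^ k := by positivity
    omega)

theorem sT_lt (b k : ℕ) : sT b k < 128 := land_lt _ 7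
theorem sP_lt (b : ℕ) : sP b < 128 := land_lt _ 7
theorem qB_lt (t : ℕ) : qB t < 128 := land_lt _ 7
theorem qN_lt (t k : ℕ) : qN t k < 32 := land_lt _ 5
theorem iFZ_lt (j : ℕ) : iFZ j < 32 := land_lt _ 5
theorem cK_lt (j : ℕ) : cK j < 2 := land_lt _ 1
theorem yK_lt (j : ℕ) : yK j < 2 := land_lt _ 1

/-- the content of `chkS`. -/
theorem chkS_spec (b : ℕ) (hb : b < 128) :
    (sI b < nC ∧ iTagS (sI b) = 1) ∧
    eqMul (dC (sI (sG 0))) (dC (sI b)) (dC (sI (sT b 0))) = true ∧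
    eqMul (dC (sI (sG 1))) (dC (sI b)) (dC (sI (sT b 1))) = true ∧
    eqMul (dC (sI (sG 2))) (dC (sI b)) (dC (sI (sT b 2))) = true ∧
    (b = bid ∨ (sT (sP b) (sK b) = b ∧ sDp (sP b) < sDp b ∧ sK b < 3)) ∧
    (128 ≤ b + 1 ∨ sI b < sI (b + 1)) ∧
    (b = bid ∨ b = bz ∨ eqMul3 (dC (sI b)) (dC (sI (sG (sW b)))) (dC (sI (sG (sW b)))) (dC (sI b)) = false) ∧
    (b = bid ∨ eqMul (dC (sI b)) (dC (sI b)) (dC jidC) = false ∨ (sY b < nY ∧ dY (sY b) = dC (sI b))) := by
  have h := chkS_all b hb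
  unfold chkS at h
  simp only [Bool.and_eq_true, Bool.or_eq_true, Nat.beq_eq, Nat.blt_eq, Nat.ble_eq, Bool.not_eq_true'] at h
  exact h

theorem sI_lt (b : ℕ) (hb : b < 128) : sI b < nC := (chkS_spec b hb).1.1

theorem sI_inj : ∀ i < 128, ∀ j < 128, sI i = sI j → i = j := by
  apply inj_of_step
  intro i hi
  rcases (chkS_spec i (by omega)).2.2.2.2.2.1 with h | h
  · exact absurd hi (not_lt.mpr h)
  · exact h

theorem chkQ_spec (t : ℕ) (ht : t < 32) :
    sI (qB t) = qI t ∧ eqMul3 (dC (cG 0)) (dC (qI t)) (dC (qI (qN t 0))) (dC (cG 0)) = true ∧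
      eqMul3 (dC (cG 1)) (dC (qI t)) (dC (qI (qN t 1))) (dC (cG 1)) = true := by
  have h := chkQ_all t ht
  unfold chkQ at h
  simp only [Bool.and_eq_true, Nat.beq_eq] at h
  exact h

theorem qI_lt (t : ℕ) (ht : t < 32) : qI t < nC := by
  rw [← (chkQ_spec t ht).1]
  exact sI_lt _ (qB_lt t)

theorem sG_lt (k : ℕ) : sG k < 128 := by
  unfold sG
  cases Nat.beq k 0 <;> cases Nat.beq k 1 <;> decide

theorem sG_cases (w : ℕ) : ∃ k < 3, sG w = sG k := by
  unfold sG
  cases h0 : Nat.beq w 0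
  · cases h1 : Nat.beq w 1
    · exact ⟨2, by norm_num, rfl⟩
    · exact ⟨1, by norm_num, rfl⟩
  · exact ⟨0, by norm_num, rfl⟩

theorem cG_lt (k : ℕ) : cG k < nC := by
  unfold cG
  cases Nat.beq k 0 <;> decide

theorem misc_spec : dC jidC = idC ∧ dY mz = dC jz ∧ sI bz = jz ∧ sI bid = jidC ∧ qI tz = jz ∧
    eqMul3 (dC (cG 0)) (dC jz) (dC jz) (dC (cG 0)) = true ∧ eqMul3 (dC (cG 1)) (dC jz) (dC jz) (dC (cG 1)) = true ∧
    eqMul (dC jx1) (dC jx1) (dC jidC) = true ∧ eqMul (dC jx2) (dC jx2) (dC jidC) = true ∧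
    eqMul (dC jx1) (dC jx2) (dC jn1) = true ∧ eqMul (dC jn1) (dC jn1) (dC jn2) = true ∧
    eqMul3 (dC jn1) (dC (sI (sG 0))) (dC (sI (nSg 0))) (dC jn1) = true ∧
    eqMul3 (dC jn1) (dC (sI (sG 1))) (dC (sI (nSg 1))) (dC jn1) = true ∧
    eqMul3 (dC jn1) (dC (sI (sG 2))) (dC (sI (nSg 2))) (dC jn1) = true ∧
    eqMul (dT lt0) (dH lh0) (dC (cG 0)) = true ∧ eqMul (dT lt1) (dH lh1) (dC (cG 1)) = true := by
  have h := vmisc
  unfold chkMisc at h
  simp only [Bool.and_eq_true, Nat.beq_eq] at h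
  exact h

end Cfsg.Agent.Lib.Helper10.J3
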