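import Cfsg.Agent.Lib.Helper89.SimpleGen

/-!
A variant of the generation criterion of `Helper89.SimpleGen` in which the central subgroup need not be generated by
`p`-elements, a way to check it from explicit data, an enumeration lemma and a bound for centralisers.
-/

set_option autoImplicit false

namespace Cfsg.Agent.Lib.Helper10.J3

open Cfsg Cfsg.FusionSystem Cfsg.Agent.Lib.Helper87 Cfsg.Agent.Lib.Helper89

variable {G : Type*} [Group G]

structure GenHypZ (p : ℕ) (Z S : Subgroup G) : Prop where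
  ne_bot : S ≠ ⊥
  closed : ∀ T : Subgroup G, T ≤ S → T ≠ ⊥ →
    (∀ x ∈ T, ∀ g : G, g * x * g⁻¹ ∈ S → g * x * g⁻¹ ∈ T) → T = S
  gen : Subgroup.normalizer (S : Set G) ≤ Z ⊔ Subgroup.closure (pGenSet p Z S)

theorem GenHypZ.map [Finite G] {G' : Type*} [Group G'] {p : ℕ} {S : Subgroup G}
    (f : G →* G') (hf : Function.Surjective f) (hker : f.ker ≤ Subgroup.center G)
    (hcop : (Nat.card f.ker).Coprime p) (hS : IsPGroup p S) (h : GenHypZ p f.ker S) :
    GenHyp p ⊥ (S.map f) := by
  have hpS : ∀ x ∈ S, ∃ k : ℕ, x ^ p ^ k = 1 := fun x hx => exists_pow_of_isPGroup hS hx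
  have hEq := @eq_of_map_eq_of_pElement G _ G' _ p f hker hcop
  refine ⟨?_, ?_, ?_⟩
  · intro hb
    apply h.ne_bot
    rw [Subgroup.eq_bot_iff_forall]
    intro x hx
    have h1 : f x ∈ S.map f := Subgroup.mem_map_of_mem f hx
    rw [hb, Subgroup.mem_bot] at h1
    exact hEq (hpS x hx) ⟨0, by simp⟩ (by rw [h1, map_one])
  · intro T hT hTne hcl
    have h1 : S ⊓ T.comap f = S := by
      refine h.closed _ inf_le_left ?_ ?_
      · intro hb
        apply hTne
        rw [Subgroup.eq_bot_iff_forall]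
        intro t ht
        obtain ⟨s, hs, rfl⟩ := hT ht
        have : s ∈ S ⊓ T.comap f := ⟨hs, ht⟩
        rw [hb, Subgroup.mem_bot] at this
        rw [this, map_one]
      · rintro x ⟨hxS, hxT⟩ g hg
        refine ⟨hg, ?_⟩
        show f (g * x * g⁻¹) ∈ T
        have := hcl (f x) hxT (f g) (by
          rw [← map_inv, ← map_mul, ← map_mul]
          exact Subgroup.mem_map_of_mem f hg)
        rwa [← map_inv, ← map_mul, ← map_mul] at this
    apply le_antisymm hT
    rintro _ ⟨s, hs, rfl⟩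
    have : s ∈ S ⊓ T.comap f := by rw [h1]; exact hs
    exact this.2
  · intro g' hg'
    obtain ⟨g, rfl⟩ := hf g'
    have hgN : g ∈ Subgroup.normalizer (S : Set G) := by
      refine mem_normalizer_of_cj_le (cj_le_iff.2 (fun x hx => ?_))
      have h1 : f g * f x * (f g)⁻¹ ∈ S.map f :=
        (Subgroup.mem_normalizer_iff.1 hg' (f x)).1 (Subgroup.mem_map_of_mem f hx)
      obtain ⟨s, hs, hs'⟩ := h1
      have h2 : g * x * g⁻¹ = s := by
        refine hEq (exists_pow_conj (hpS x hx) g) (hpS s hs) ?_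
        rw [hs', map_mul, map_mul, map_inv]
      rw [h2]
      exact hs
    have h1 : f g ∈ (f.ker ⊔ Subgroup.closure (pGenSet p f.ker S)).map f :=
      Subgroup.mem_map_of_mem f (h.gen hgN)
    have h5 : f.ker.map f = ⊥ := by
      rw [Subgroup.map_eq_bot_iff]
    rw [Subgroup.map_sup, h5, bot_sup_eq, MonoidHom.map_closure] at h1
    refine (Subgroup.closure_mono ?_) h1
    rintro _ ⟨t, ⟨htN, R, hRS, hSR, hC, ht⟩, rfl⟩
    refine ⟨Subgroup.le_normalizer_map f (Subgroup.mem_map_of_mem f htN), R.map f,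
      Subgroup.map_mono hRS, (Subgroup.map_mono hSR).trans (Subgroup.le_normalizer_map f), ?_, ?_⟩
    · rw [sup_bot_eq]
      intro x' hx'
      obtain ⟨x, rfl⟩ := hf x'
      have hxC : x ∈ Subgroup.centralizer (R : Set G) := by
        rw [Subgroup.mem_centralizer_iff]
        intro r hr
        have h2 : f r * f x = f x * f r :=
          (Subgroup.mem_centralizer_iff.1 hx') (f r) (Subgroup.mem_map_of_mem f hr)
        have h3 : x * r * x⁻¹ = r := by
          refine hEq (exists_pow_conj (hpS r (hRS hr)) x) (hpS r (hRS hr)) ?_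
          rw [map_mul, map_mul, map_inv, ← h2, mul_inv_cancel_right]
        calc r * x = (x * r * x⁻¹) * x := by rw [h3]
          _ = x * r := by simp
      have h4 : f x ∈ (R ⊔ f.ker).map f := Subgroup.mem_map_of_mem f (hC hxC)
      rw [Subgroup.map_sup] at h4
      rwa [h5, sup_bot_eq] at h4
    · have h2 : f t ∈ (Subgroup.closure {x : G | x ∈ Subgroup.normalizer (R : Set G) ∧
          ∃ k : ℕ, x ^ p ^ k = 1}).map f := Subgroup.mem_map_of_mem f ht
      rw [MonoidHom.map_closure] at h2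
      refine (Subgroup.closure_mono ?_) h2
      rintro _ ⟨x, ⟨hxN, k, hk⟩, rfl⟩
      exact ⟨Subgroup.le_normalizer_map f (Subgroup.mem_map_of_mem f hxN), k, by
        rw [← map_pow, hk, map_one]⟩

theorem conj_closure_mem {I : Set G} {K : Subgroup G} {g : G} (h : ∀ i ∈ I, g * i * g⁻¹ ∈ K) :
    ∀ x ∈ Subgroup.closure I, g * x * g⁻¹ ∈ K := by
  intro x hx
  induction hx using Subgroup.closure_induction with
  | mem x hx => exact h x hx
  | one => simp
  | mul a b _ _ iha ihb =>
    have : g * (a * b) * g⁻¹ = (g * a * g⁻¹) * (g * b * g⁻¹) := by group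
    rw [this]
    exact K.mul_mem iha ihb
  | inv a _ iha =>
    have : g * a⁻¹ * g⁻¹ = (g * a * g⁻¹)⁻¹ := by group
    rw [this]
    exact K.inv_mem iha

theorem genHypZ_of_data [Finite G] (Z S C : Subgroup G) (I Qs : Set G) (z n0 x1 x2 : G)
    (hS : S = Subgroup.closure I) (hp : IsPGroup 2 S)
    (hI : ∀ i ∈ I, i ^ 2 = 1 ∧ i ≠ 1)
    (hinv : ∀ t ∈ S, t ^ 2 = 1 → t ≠ 1 → ∃ g : G, g * z * g⁻¹ = t)
    (hzS : z ∈ S) (hz1 : z ≠ 1)
    (hcen : ∀ t ∈ S, (∀ i ∈ I, t * i = i * t) → t = 1 ∨ t = z)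
    (hC : ∀ g : G, g * z = z * g → g ∈ C)
    (hCz : ∀ g ∈ C, g * z = z * g)
    (hSC : S ≤ C)
    (hN : ∀ g ∈ C, (∀ i ∈ I, g * i * g⁻¹ ∈ S) → g ∈ Z ⊔ Subgroup.closure ((S : Set G) ∪ {n0}))
    (hQS : Qs ⊆ S) (hzQ : z ∈ Qs)
    (hQn : ∀ g ∈ C, ∀ q ∈ Qs, g * q * g⁻¹ ∈ Qs)
    (hQc : ∀ g ∈ C, (∀ q ∈ Qs, g * q = q * g) → g ∈ Subgroup.closure Qs ⊔ Z)
    (hx1 : x1 ∈ C) (hx2 : x2 ∈ C) (hx1' : x1 ^ 2 = 1) (hx2' : x2 ^ 2 = 1) (hn0 : n0 = x1 * x2)
    (hn0S : ∀ i ∈ I, n0 * i * n0⁻¹ ∈ S) : GenHypZ 2 Z S := by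
  have hIS : ∀ i ∈ I, i ∈ S := fun i hi => by rw [hS]; exact Subgroup.subset_closure hi
  refine ⟨?_, ?_, ?_⟩
  · intro hb
    rw [hb, Subgroup.mem_bot] at hzS
    exact hz1 hzS
  · intro T hT hne hcl
    have hpT : IsPGroup 2 T := hp.to_le hT
    have hdvd : 2 ∣ Nat.card T := by
      rcases hpT.card_eq_or_dvd with h | h
      · exact absurd (Subgroup.card_eq_one.1 h) hne
      · exact h
    obtain ⟨t, ht⟩ := exists_prime_orderOf_dvd_card' (G := T) 2 hdvd
    have ht2 : (t : G) ^ 2 = 1 := by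
      have := pow_orderOf_eq_one t
      rw [ht] at this
      exact congrArg Subtype.val this
    have ht1 : (t : G) ≠ 1 := by
      intro h
      have : t = 1 := Subtype.ext h
      rw [this, orderOf_one] at ht
      norm_num at ht
    obtain ⟨g, hg⟩ := hinv t (hT t.2) ht2 ht1
    apply le_antisymm hT
    rw [hS, Subgroup.closure_le]
    intro i hi
    obtain ⟨g', hg'⟩ := hinv i (hIS i hi) (hI i hi).1 (hI i hi).2
    have he : (g' * g⁻¹) * (t : G) * (g' * g⁻¹)⁻¹ = i := by
      rw [← hg, ← hg']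
      group
    have := hcl t t.2 (g' * g⁻¹) (by rw [he]; exact hIS i hi)
    rw [he] at this
    exact this
  · -- the subgroup R
    set R : Subgroup G := Subgroup.closure Qs with hR
    have hRS : R ≤ S := (Subgroup.closure_le _).2 hQS
    have hCR : C ≤ Subgroup.normalizer (R : Set G) := by
      intro g hg
      refine mem_normalizer_of_cj_le (cj_le_iff.2 ?_)
      exact conj_closure_mem (fun q hq => Subgroup.subset_closure (hQn g hg q hq))
    have hcR : Subgroup.centralizer (R : Set G) ≤ R ⊔ Z := by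
      intro g hg
      rw [Subgroup.mem_centralizer_iff] at hg
      have hgC : g ∈ C := hC g (hg z (Subgroup.subset_closure hzQ)).symm
      exact hQc g hgC (fun q hq => (hg q (Subgroup.subset_closure hq)).symm)
    have hn0N : n0 ∈ Subgroup.normalizer (S : Set G) := by
      refine mem_normalizer_of_cj_le (cj_le_iff.2 ?_)
      intro x hx
      rw [hS] at hx
      exact conj_closure_mem hn0S x hx
    have hgen : (S : Set G) ∪ {n0} ⊆ pGenSet 2 Z S := by
      rintro h (hh | hh)
      · refine ⟨Subgroup.le_normalizer hh, R, hRS, hSC.trans hCR, hcR, Subgroup.subset_closure ?_⟩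
        exact ⟨hCR (hSC hh), exists_pow_of_isPGroup hp hh⟩
      · rw [Set.mem_singleton_iff] at hh
        subst hh
        refine ⟨hn0N, R, hRS, hSC.trans hCR, hcR, ?_⟩
        rw [hn0]
        exact Subgroup.mul_mem _ (Subgroup.subset_closure ⟨hCR hx1, 1, by simpa using hx1'⟩)
          (Subgroup.subset_closure ⟨hCR hx2, 1, by simpa using hx2'⟩)
    intro g hg
    have hgz : g * z * g⁻¹ = z := by
      have h1 : g * z * g⁻¹ ∈ S := (Subgroup.mem_normalizer_iff.1 hg z).1 hzS
      have h2 : ∀ i ∈ I, (g * z * g⁻¹) * i = i * (g * z * g⁻¹) := by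
        intro i hi
        have h3 : g⁻¹ * i * g ∈ S := by
          have := (Subgroup.mem_normalizer_iff.1 (Subgroup.inv_mem _ hg) i).1 (hIS i hi)
          simpa using this
        have h4 := hCz _ (hSC h3)
        calc (g * z * g⁻¹) * i = g * (z * (g⁻¹ * i * g)) * g⁻¹ := by group
          _ = g * ((g⁻¹ * i * g) * z) * g⁻¹ := by rw [h4]
          _ = i * (g * z * g⁻¹) := by group
      rcases hcen _ h1 h2 with h | h
      · exfalso
        apply hz1
        have : z = g⁻¹ * (g * z * g⁻¹) * g := by group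
        rw [this, h]
        group
      · exact h
    have hgC : g ∈ C := by
      apply hC
      calc g * z = (g * z * g⁻¹) * g := by group
        _ = z * g := by rw [hgz]
    have h5 := hN g hgC (fun i hi => (Subgroup.mem_normalizer_iff.1 hg i).1 (hIS i hi))
    exact (sup_le_sup_left (Subgroup.closure_mono hgen) Z) h5

/-- a bound for the centraliser from a list of conjugates. -/
theorem card_centralizer_le [Finite G] (z : G) (n : ℕ) (y : ℕ → G) (hy : ∀ m < n, ∃ g : G, g * z * g⁻¹ = y m)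
    (hinj : ∀ m < n, ∀ m' < n, y m = y m' → m = m') (C : Subgroup G) (hC : ∀ g ∈ C, g * z = z * g) :
    n * Nat.card C ≤ Nat.card G := by
  have hy' : ∀ m : Fin n, ∃ g : G, g * z * g⁻¹ = y m := fun m => hy m m.2
  choose t ht using hy'
  have hinj' : Function.Injective (fun q : Fin n × C => t q.1 * (q.2 : G)) := by
    rintro ⟨m, c⟩ ⟨m', c'⟩ h
    have h : t m * (c : G) = t m' * (c' : G) := h
    have h1 : ∀ (m : Fin n) (c : C), (t m * (c : G)) * z * (t m * (c : G))⁻¹ = y m := by
      intro m c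
      rw [← ht m]
      have := hC c c.2
      calc (t m * (c : G)) * z * (t m * (c : G))⁻¹ = t m * ((c : G) * z) * (c : G)⁻¹ * (t m)⁻¹ := by group
        _ = t m * (z * (c : G)) * (c : G)⁻¹ * (t m)⁻¹ := by rw [this]
        _ = t m * z * (t m)⁻¹ := by group
    have h2 : y m = y m' := by rw [← h1 m c, ← h1 m' c', h]
    have h3 : m = m' := Fin.ext (hinj m m.2 m' m'.2 h2)
    subst h3
    have h4 : (c : G) = c' := mul_left_cancel h
    rw [Subtype.ext h4]
  have := Nat.card_le_card_of_injective _ hinj'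
  rwa [Nat.card_prod, Nat.card_fin] at this

end Cfsg.Agent.Lib.Helper10.J3
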