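import Cfsg.Agent.Lib.Helper10.J3.FusA
import Cfsg.Agent.Lib.Helper10.J3.FusCrit

/-!
The generation criterion for the 2-fusion system in the triple cover of the third Janko group.
-/

set_option autoImplicit false

namespace Cfsg.Agent.Lib.Helper10.J3

open Cfsg.Spor Matrix

section field
variable {F : Type*} [Field F] (h2 : (2 : F) = 0) (ω : F) (hω : ω ^ 2 + ω + 1 = 0)

/-- the matrix of an element. -/
def mat : threeJ3 F ω →* Matrix F9 F9 F := (Units.coeHom _).comp (threeJ3 F ω).subtype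

theorem mat_inj : Function.Injective (mat ω) := fun _ _ h => Subtype.ext (Units.ext h)

include h2 hω

theorem lift_mul {a b c : threeJ3 F ω} {ca cb cc : ℕ} (ha : mat ω a = decM ω ca) (hb : mat ω b = decM ω cb)
    (hc : mat ω c = decM ω cc) (h : eqMul ca cb cc = true) : a * b = c := by
  apply mat_inj ω
  rw [map_mul, ha, hb, hc]
  exact eqMul_sound h2 ω hω h

theorem lift_mul3 {a b c d : threeJ3 F ω} {ca cb cc cd : ℕ} (ha : mat ω a = decM ω ca) (hb : mat ω b = decM ω cb)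
    (hc : mat ω c = decM ω cc) (hd : mat ω d = decM ω cd) (h : eqMul3 ca cb cc cd = true) : a * b = c * d := by
  apply mat_inj ω
  rw [map_mul, map_mul, ha, hb, hc, hd]
  exact eqMul3_sound h2 ω hω h

theorem lift_ne3 {a b c d : threeJ3 F ω} {ca cb cc cd : ℕ} (ha : mat ω a = decM ω ca) (hb : mat ω b = decM ω cb)
    (hc : mat ω c = decM ω cc) (hd : mat ω d = decM ω cd) (h : eqMul3 ca cb cc cd = false) : a * b ≠ c * d := by
  intro he
  have := congrArg (mat ω) he
  rw [map_mul, map_mul, ha, hb, hc, hd] at this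
  rw [eqMul3_complete h2 ω hω this] at h
  exact Bool.noConfusion h

theorem lift_ne {a b c : threeJ3 F ω} {ca cb cc : ℕ} (ha : mat ω a = decM ω ca) (hb : mat ω b = decM ω cb)
    (hc : mat ω c = decM ω cc) (h : eqMul ca cb cc = false) : a * b ≠ c := by
  intro he
  have := congrArg (mat ω) he
  rw [map_mul, ha, hb, hc] at this
  rw [eqMul_complete h2 ω hω this] at h
  exact Bool.noConfusion h

theorem ctabEq : ∀ j < nC, ∀ k < 2, cT j k < nC ∧
    decM ω (dC (cG k)) * decM ω (dC j) = decM ω (dC (cT j k)) := by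
  intro j hj k hk
  have h := (chkC_all j hj).1
  unfold chkC1 at h
  simp only [Bool.and_eq_true, Nat.blt_eq] at h
  interval_cases k
  · exact ⟨h.1.1, eqMul_sound h2 ω hω h.1.2⟩
  · exact ⟨h.2.1.1, eqMul_sound h2 ω hω h.2.1.2⟩

theorem enumC (s : ℕ → threeJ3 F ω) (hs : ∀ k < 2, mat ω (s k) = decM ω (dC (cG k))) :
    Enum (mat ω) s 2 (fun j => decM ω (dC j)) nC jidC where
  tab := by
    intro j hj k hk
    obtain ⟨a, b⟩ := ctabEq h2 ω hω j hj k hk
    exact ⟨_, a, by rw [hs k hk]; exact b⟩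
  one := by
    show decM ω (dC jidC) = 1
    rw [misc_spec.1, decM_id h2 ω hω]
  jid_lt := by decide
  tree := by
    refine ⟨cD, ?_⟩
    intro j hj hj0
    have h := (chkC_all j hj).1
    unfold chkC1 at h
    simp only [Bool.and_eq_true, Bool.or_eq_true, Nat.beq_eq, Nat.blt_eq] at h
    rcases h.2.2.1 with h | h
    · exact absurd h hj0
    · obtain ⟨_, c⟩ := ctabEq h2 ω hω (cP j) h.1 (cK j) (cK_lt j)
      refine ⟨cP j, h.1, cK j, cK_lt j, h.2.2, ?_⟩
      show mat ω (s (cK j)) * decM ω (dC (cP j)) = decM ω (dC j)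
      rw [hs _ (cK_lt j), c, h.2.1]

theorem exists_kappa : ∃ κ : ℕ → threeJ3 F ω, ∀ j < nC, mat ω (κ j) = decM ω (dC j) := by
  obtain ⟨-, -, -, -, -, -, -, -, hmem⟩ := structure_threeJ3 h2 ω hω
  obtain ⟨x0, hx0, e0⟩ := hmem lt0 (by decide) lh0 (by decide)
  obtain ⟨x1, hx1, e1⟩ := hmem lt1 (by decide) lh1 (by decide)
  have m := misc_spec
  rw [eqMul_sound h2 ω hω m.2.2.2.2.2.2.2.2.2.2.2.2.2.2.1] at e0
  rw [eqMul_sound h2 ω hω m.2.2.2.2.2.2.2.2.2.2.2.2.2.2.2] at e1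
  have D := enumC h2 ω hω (fun k => if k = 0 then ⟨x0, hx0⟩ else ⟨x1, hx1⟩) (by
    intro k hk
    interval_cases k
    · exact e0
    · exact e1)
  have := D.list_mem
  choose! f hf using this
  exact ⟨f, fun j hj => (hf j hj).2⟩


variable (κ : ℕ → threeJ3 F ω) (hκ : ∀ j < nC, mat ω (κ j) = decM ω (dC j))

/-- the centraliser. -/
def Cg : Subgroup (threeJ3 F ω) := Subgroup.closure {x | ∃ k < 2, x = κ (cG k)}

/-- the Sylow subgroup. -/
def Sg : Subgroup (threeJ3 F ω) := Subgroup.closure {x | ∃ k < 3, x = κ (sI (sG k))}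

include hκ

theorem kap_inj : ∀ j < nC, ∀ j' < nC, κ j = κ j' → j = j' := by
  intro j hj j' hj' h
  have h1 := congrArg (mat ω) h
  rw [hκ j hj, hκ j' hj'] at h1
  exact dC_inj j hj j' hj' (decM_inj h2 ω hω (dC_lt _) (dC_lt _) h1)

theorem kap_one : κ jidC = 1 := by
  apply mat_inj ω
  rw [hκ jidC (by decide), map_one, misc_spec.1, decM_id h2 ω hω]

theorem enumC' : Enum (mat ω) (fun k => κ (cG k)) 2 (fun j => decM ω (dC j)) nC jidC :=
  enumC h2 ω hω _ (fun k _ => hκ _ (cG_lt k))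

theorem mem_Cg [Finite F] : ∀ x ∈ Cg ω κ, ∃ j < nC, x = κ j := by
  intro x hx
  obtain ⟨j, hj, he⟩ := (enumC' h2 ω hω κ hκ).mem_list x hx
  exact ⟨j, hj, mat_inj ω (by rw [he, hκ j hj])⟩

theorem kap_mem_Cg : ∀ j < nC, κ j ∈ Cg ω κ := by
  intro j hj
  obtain ⟨x, hx, he⟩ := (enumC' h2 ω hω κ hκ).list_mem j hj
  have : x = κ j := mat_inj ω (by rw [he, hκ j hj])
  rw [← this]
  exact hx

theorem card_Cg [Finite F] : Nat.card (Cg ω κ) = 5760 :=
  (enumC' h2 ω hω κ hκ).card (mat_inj ω)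
    (fun j hj j' hj' h => dC_inj j hj j' hj' (decM_inj h2 ω hω (dC_lt _) (dC_lt _) h))

theorem stabEq : ∀ b < 128, ∀ k < 3,
    decM ω (dC (sI (sG k))) * decM ω (dC (sI b)) = decM ω (dC (sI (sT b k))) := by
  intro b hb k hk
  have h := chkS_spec b hb
  interval_cases k
  · exact eqMul_sound h2 ω hω h.2.1
  · exact eqMul_sound h2 ω hω h.2.2.1
  · exact eqMul_sound h2 ω hω h.2.2.2.1

theorem enumS : Enum (mat ω) (fun k => κ (sI (sG k))) 3 (fun b => decM ω (dC (sI b))) 128 bid where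
  tab := by
    intro b hb k hk
    exact ⟨_, sT_lt b k, by rw [hκ _ (sI_lt _ (sG_lt k))]; exact stabEq h2 ω hω κ hκ b hb k hk⟩
  one := by
    show decM ω (dC (sI bid)) = 1
    rw [misc_spec.2.2.2.1, misc_spec.1, decM_id h2 ω hω]
  jid_lt := by decide
  tree := by
    refine ⟨sDp, ?_⟩
    intro b hb hb0
    rcases (chkS_spec b hb).2.2.2.2.1 with h | h
    · exact absurd h hb0
    · refine ⟨sP b, sP_lt b, sK b, h.2.2, h.2.1, ?_⟩
      show mat ω (κ (sI (sG (sK b)))) * decM ω (dC (sI (sP b))) = decM ω (dC (sI b))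
      rw [hκ _ (sI_lt _ (sG_lt _)), stabEq h2 ω hω κ hκ (sP b) (sP_lt b) (sK b) h.2.2, h.1]

theorem mem_Sg [Finite F] : ∀ x ∈ Sg ω κ, ∃ b < 128, x = κ (sI b) := by
  intro x hx
  obtain ⟨b, hb, he⟩ := (enumS h2 ω hω κ hκ).mem_list x hx
  exact ⟨b, hb, mat_inj ω (by rw [he, hκ _ (sI_lt b hb)])⟩

theorem kap_mem_Sg : ∀ b < 128, κ (sI b) ∈ Sg ω κ := by
  intro b hb
  obtain ⟨x, hx, he⟩ := (enumS h2 ω hω κ hκ).list_mem b hb
  have : x = κ (sI b) := mat_inj ω (by rw [he, hκ _ (sI_lt b hb)])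
  rw [← this]
  exact hx

theorem card_Sg [Finite F] : Nat.card (Sg ω κ) = 128 :=
  (enumS h2 ω hω κ hκ).card (mat_inj ω)
    (fun b hb b' hb' h => sI_inj b hb b' hb'
      (dC_inj _ (sI_lt b hb) _ (sI_lt b' hb') (decM_inj h2 ω hω (dC_lt _) (dC_lt _) h)))

/-- the class of the involution. -/
theorem class_mem : ∀ m < nY, ∃ y g : threeJ3 F ω, mat ω y = decM ω (dY m) ∧ g * κ jz * g⁻¹ = y := by
  obtain ⟨su, hsu, hsue⟩ := exists_su h2 ω hω
  obtain ⟨sv, hsv, hsve⟩ := exists_sv h2 ω hω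
  have hs : ∀ k < 2, ∃ s : threeJ3 F ω, mat ω s = decM ω (sC k) := by
    intro k hk
    interval_cases k
    · exact ⟨⟨su, hsu⟩, hsue⟩
    · exact ⟨⟨sv, hsv⟩, hsve⟩
  have key : ∀ d m, yD m = d → m < nY →
      ∃ y g : threeJ3 F ω, mat ω y = decM ω (dY m) ∧ g * κ jz * g⁻¹ = y := by
    intro d
    induction d using Nat.strong_induction_on with
    | _ d ih =>
      intro m hmd hm
      rcases (chkY_all m hm).1 with h | h
      · refine ⟨κ jz, 1, ?_, by simp⟩
        rw [h, misc_spec.2.1]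
        exact hκ jz (by decide)
      · obtain ⟨y, g, hy, hg⟩ := ih (yD (yP m)) (hmd ▸ h.2.1) (yP m) rfl h.1
        obtain ⟨s, hs⟩ := hs (yK m) (yK_lt m)
        refine ⟨s * y * s⁻¹, s * g, ?_, by rw [← hg]; group⟩
        have h3 := eqMul3_sound h2 ω hω h.2.2
        rw [← hs, ← hy, ← map_mul] at h3
        have h4 : mat ω (s * y * s⁻¹) * mat ω s = decM ω (dY m) * mat ω s := by
          rw [← h3, ← map_mul]
          congr 1
          group
        have h5 : mat ω s * mat ω s⁻¹ = 1 := by rw [← map_mul, mul_inv_cancel, map_one]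
        calc mat ω (s * y * s⁻¹) = mat ω (s * y * s⁻¹) * (mat ω s * mat ω s⁻¹) := by rw [h5, mul_one]
          _ = decM ω (dY m) * mat ω s * mat ω s⁻¹ := by rw [← mul_assoc, h4]
          _ = decM ω (dY m) := by rw [mul_assoc, h5, mul_one]
  intro m hm
  exact key _ m rfl hm

theorem Cg_comm : ∀ g ∈ Cg ω κ, g * κ jz = κ jz * g := by
  intro g hg
  have hle : Cg ω κ ≤ Subgroup.centralizer {κ jz} := by
    unfold Cg
    rw [Subgroup.closure_le]
    rintro x ⟨k, hk, rfl⟩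
    rw [SetLike.mem_coe, Subgroup.mem_centralizer_iff]
    intro y hy
    rw [Set.mem_singleton_iff] at hy
    subst hy
    have m := misc_spec
    interval_cases k
    · exact (lift_mul3 h2 ω hω (hκ _ (cG_lt 0)) (hκ jz (by decide)) (hκ jz (by decide)) (hκ _ (cG_lt 0))
        m.2.2.2.2.2.1).symm
    · exact (lift_mul3 h2 ω hω (hκ _ (cG_lt 1)) (hκ jz (by decide)) (hκ jz (by decide)) (hκ _ (cG_lt 1))
        m.2.2.2.2.2.2.1).symm
  have := hle hg
  rw [Subgroup.mem_centralizer_iff] at this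
  exact (this _ rfl).symm

theorem mem_Cg_of_comm [Finite F] : ∀ g : threeJ3 F ω, g * κ jz = κ jz * g → g ∈ Cg ω κ := by
  have hcard : Nat.card (threeJ3 F ω) = 150698880 := (structure_threeJ3 h2 ω hω).choose_spec.choose_spec.2.2.2.1
  have hcl := class_mem h2 ω hω κ hκ
  choose! y g hy hg using hcl
  have hle : Cg ω κ ≤ Subgroup.centralizer {κ jz} := by
    intro x hx
    rw [Subgroup.mem_centralizer_iff]
    intro w hw
    rw [Set.mem_singleton_iff] at hw
    subst hw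
    exact (Cg_comm h2 ω hω κ hκ x hx).symm
  have hb := card_centralizer_le (κ jz) nY y (fun m hm => ⟨g m, hg m hm⟩) (by
    intro m hm m' hm' h
    have h1 := congrArg (mat ω) h
    rw [hy m hm, hy m' hm'] at h1
    exact dY_inj m hm m' hm' (decM_inj h2 ω hω (dY_lt _) (dY_lt _) h1)) (Subgroup.centralizer {κ jz}) (by
    intro x hx
    rw [Subgroup.mem_centralizer_iff] at hx
    exact (hx _ rfl).symm)
  rw [hcard] at hb
  have hb' : Nat.card (Subgroup.centralizer {κ jz}) ≤ Nat.card (Cg ω κ) := by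
    rw [card_Cg h2 ω hω κ hκ]
    have : nY = 26163 := rfl
    rw [this] at hb
    omega
  have heq : Cg ω κ = Subgroup.centralizer {κ jz} := Subgroup.eq_of_le_of_card_ge hle hb'
  intro x hx
  rw [heq, Subgroup.mem_centralizer_iff]
  intro w hw
  rw [Set.mem_singleton_iff] at hw
  subst hw
  exact hx.symm

end field

end Cfsg.Agent.Lib.Helper10.J3
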