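import Cfsg.Agent.Lib.Helper10.J3.FusB

/-!
The generation criterion for the 2-fusion system in the triple cover of the third Janko group (end).
-/

set_option autoImplicit false

namespace Cfsg.Agent.Lib.Helper10.J3

open Cfsg.Spor Matrix

theorem conj_set_of_closure {G : Type*} [Group G] [Finite G] {A Qs : Set G}
    (h : ∀ a ∈ A, ∀ q ∈ Qs, a * q * a⁻¹ ∈ Qs) : ∀ g ∈ Subgroup.closure A, ∀ q ∈ Qs, g * q * g⁻¹ ∈ Qs := by
  have hmul : ∀ a b : G, (∀ q ∈ Qs, a * q * a⁻¹ ∈ Qs) → (∀ q ∈ Qs, b * q * b⁻¹ ∈ Qs) →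
      ∀ q ∈ Qs, (a * b) * q * (a * b)⁻¹ ∈ Qs := by
    intro a b ha hb q hq
    have : (a * b) * q * (a * b)⁻¹ = a * (b * q * b⁻¹) * a⁻¹ := by group
    rw [this]
    exact ha _ (hb q hq)
  have hpow : ∀ (a : G) (n : ℕ), (∀ q ∈ Qs, a * q * a⁻¹ ∈ Qs) → ∀ q ∈ Qs, (a ^ n) * q * (a ^ n)⁻¹ ∈ Qs := by
    intro a n ha
    induction n with
    | zero => intro q hq; simpa using hq
    | succ n ih =>
      rw [pow_succ]
      exact hmul _ _ ih ha
  intro g hg
  induction hg using Subgroup.closure_induction with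
  | mem x hx => exact h x hx
  | one => intro q hq; simpa using hq
  | mul a b _ _ iha ihb => exact hmul a b iha ihb
  | inv a _ iha =>
    have : a⁻¹ = a ^ (orderOf a - 1) := by
      rw [inv_eq_iff_mul_eq_one, ← pow_succ']
      have : orderOf a - 1 + 1 = orderOf a := Nat.sub_add_cancel (orderOf_pos a)
      rw [this, pow_orderOf_eq_one]
    rw [this]
    exact hpow a _ iha

theorem jW_lt (a : ℕ) : jW a < nC := by
  unfold jW
  cases Nat.beq a 0 <;> cases Nat.beq a 1 <;> decide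

theorem jN_lt (a : ℕ) : jN a < nC := by
  unfold jN
  cases Nat.beq a 0 <;> cases Nat.beq a 1 <;> decide

theorem jZ_lt (a : ℕ) : jZ a < nC := by
  unfold jZ
  cases Nat.beq a 0 <;> decide

theorem nSg_lt (a : ℕ) : nSg a < 128 := by
  unfold nSg
  cases Nat.beq a 0 <;> cases Nat.beq a 1 <;> decide

section field
variable {F : Type*} [Field F] [Finite F] (h2 : (2 : F) = 0) (ω : F) (hω : ω ^ 2 + ω + 1 = 0)
variable (κ : ℕ → threeJ3 F ω) (hκ : ∀ j < nC, mat ω (κ j) = decM ω (dC j))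
include h2 hω hκ

theorem kap_W (a : ℕ) : κ (jW a) ∈ Subgroup.center (threeJ3 F ω) := by
  have hw1 : κ jw1 ∈ Subgroup.center (threeJ3 F ω) := by
    rw [Subgroup.mem_center_iff]
    intro g
    apply mat_inj ω
    rw [map_mul, map_mul, hκ jw1 (by decide), jw1_ok, decM_w h2 ω hω]
    simp
  have hw2 : κ jw2 = κ jw1 * κ jw1 :=
    (lift_mul h2 ω hω (hκ jw1 (by decide)) (hκ jw1 (by decide)) (hκ jw2 (by decide)) vw).symm
  unfold jW
  cases Nat.beq a 0
  · cases Nat.beq a 1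
    · show κ jw2 ∈ _
      rw [hw2]
      exact Subgroup.mul_mem _ hw1 hw1
    · exact hw1
  · show κ jidC ∈ _
    rw [kap_one h2 ω hω κ hκ]
    exact Subgroup.one_mem _

theorem genHyp_threeJ3 : GenHypZ 2 (Subgroup.center (threeJ3 F ω)) (Sg ω κ) := by
  have m := misc_spec
  have h1 := kap_one h2 ω hω κ hκ
  have hSmem := kap_mem_Sg h2 ω hω κ hκ
  have hsI : ∀ b < 128, mat ω (κ (sI b)) = decM ω (dC (sI b)) := fun b hb => hκ _ (sI_lt b hb)
  apply genHypZ_of_data (Subgroup.center (threeJ3 F ω)) (Sg ω κ) (Cg ω κ) {x | ∃ k < 3, x = κ (sI (sG k))}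
    {x | ∃ t < 32, x = κ (qI t)} (κ jz) (κ jn1) (κ jx1) (κ jx2)
  · rfl
  · exact IsPGroup.of_card (n := 7) (by rw [card_Sg h2 ω hω κ hκ]; norm_num)
  · rintro i ⟨k, hk, rfl⟩
    have hv := vsg
    simp only [Bool.and_eq_true] at hv
    constructor
    · rw [pow_two, ← h1]
      interval_cases k
      · exact lift_mul h2 ω hω (hsI _ (sG_lt 0)) (hsI _ (sG_lt 0)) (hκ _ (by decide)) hv.1
      · exact lift_mul h2 ω hω (hsI _ (sG_lt 1)) (hsI _ (sG_lt 1)) (hκ _ (by decide)) hv.2.1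
      · exact lift_mul h2 ω hω (hsI _ (sG_lt 2)) (hsI _ (sG_lt 2)) (hκ _ (by decide)) hv.2.2
    · intro h
      rw [← h1, ← m.2.2.2.1] at h
      have h3 := sI_inj _ (sG_lt k) _ (by decide)
        (kap_inj h2 ω hω κ hκ _ (sI_lt _ (sG_lt k)) _ (sI_lt _ (by decide)) h)
      interval_cases k <;> exact absurd h3 (by decide)
  · intro t ht ht2 ht1
    obtain ⟨b, hb, rfl⟩ := mem_Sg h2 ω hω κ hκ t ht
    rcases (chkS_spec b hb).2.2.2.2.2.2.2 with h | h | h
    · exfalso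
      apply ht1
      rw [h, m.2.2.2.1, h1]
    · exfalso
      apply lift_ne h2 ω hω (hsI b hb) (hsI b hb) (hκ jidC (by decide)) h
      rw [h1, ← pow_two, ht2]
    · obtain ⟨y, g, hy, hg⟩ := class_mem h2 ω hω κ hκ (sY b) h.1
      refine ⟨g, ?_⟩
      rw [hg]
      apply mat_inj ω
      rw [hy, h.2, hsI b hb]
  · rw [← m.2.2.1]
    exact hSmem bz (by decide)
  · intro h
    rw [← h1] at h
    exact absurd (kap_inj h2 ω hω κ hκ _ (by decide) _ (by decide) h) (by decide)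
  · intro t ht hc
    obtain ⟨b, hb, rfl⟩ := mem_Sg h2 ω hω κ hκ t ht
    rcases (chkS_spec b hb).2.2.2.2.2.2.1 with h | h | h
    · left
      rw [h, m.2.2.2.1, h1]
    · right
      rw [h, m.2.2.1]
    · exfalso
      obtain ⟨k, hk, he⟩ := sG_cases (sW b)
      exact lift_ne3 h2 ω hω (hsI b hb) (hsI _ (sG_lt _)) (hsI _ (sG_lt _)) (hsI b hb) h
        (hc _ ⟨k, hk, by rw [he]⟩)
  · exact mem_Cg_of_comm h2 ω hω κ hκ
  · exact Cg_comm h2 ω hω κ hκ
  · unfold Sg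
    rw [Subgroup.closure_le]
    rintro x ⟨k, hk, rfl⟩
    exact kap_mem_Cg h2 ω hω κ hκ _ (sI_lt _ (sG_lt k))
  · intro g hg hn
    obtain ⟨j, hj, rfl⟩ := mem_Cg h2 ω hω κ hκ g hg
    have h := (chkC_all j hj).2.1
    unfold chkN at h
    cases hb : Nat.beq (iTagN j) 1
    · rw [hb] at h
      simp only [cond_false, Bool.and_eq_true, Nat.blt_eq, Nat.beq_eq] at h
      exfalso
      obtain ⟨k, hk, he⟩ := sG_cases (Nat.land (iFN j) 7)
      have h3 := lift_mul3 h2 ω hω (hκ j hj) (hsI _ (sG_lt _)) (hκ _ h.1) (hκ j hj) h.2.2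
      have h4 : κ j * κ (sI (sG (Nat.land (iFN j) 7))) * (κ j)⁻¹ = κ (Nat.shiftRight (iFN j) 3) := by
        rw [h3, mul_inv_cancel_right]
      have h5 := hn (κ (sI (sG (Nat.land (iFN j) 7)))) ⟨k, hk, by rw [he]⟩
      rw [h4] at h5
      obtain ⟨b, hb', he'⟩ := mem_Sg h2 ω hω κ hκ _ h5
      have h6 := kap_inj h2 ω hω κ hκ _ h.1 _ (sI_lt b hb') he'
      have h7 := (chkS_spec b hb').1.2
      rw [← h6, h.2.1] at h7
      exact absurd h7 (by norm_num)
    · rw [hb] at h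
      simp only [cond_true] at h
      have hb7 : Nat.land (Nat.shiftRight (iFN j) 2) 127 < 128 := land_lt _ 7
      have h3 := lift_mul3 h2 ω hω (hκ _ (jW_lt _)) (hκ j hj) (hsI _ hb7) (hκ _ (jN_lt _)) h
      have h4 : κ j = (κ (jW (Nat.land (iFN j) 3)))⁻¹ *
          (κ (sI (Nat.land (Nat.shiftRight (iFN j) 2) 127)) * κ (jN (Nat.shiftRight (iFN j) 9))) := by
        rw [← h3, inv_mul_cancel_left]
      rw [h4]
      apply Subgroup.mul_mem_sup (Subgroup.inv_mem _ (kap_W h2 ω hω κ hκ _))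
      refine Subgroup.mul_mem _ (Subgroup.subset_closure (Or.inl (hSmem _ hb7))) ?_
      have hn1 : κ jn1 ∈ Subgroup.closure (((Sg ω κ : Subgroup (threeJ3 F ω)) : Set (threeJ3 F ω)) ∪ {κ jn1}) :=
        Subgroup.subset_closure (Or.inr rfl)
      unfold jN
      cases Nat.beq (Nat.shiftRight (iFN j) 9) 0
      · cases Nat.beq (Nat.shiftRight (iFN j) 9) 1
        · show κ jn2 ∈ _
          rw [← lift_mul h2 ω hω (hκ jn1 (by decide)) (hκ jn1 (by decide)) (hκ jn2 (by decide))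
            m.2.2.2.2.2.2.2.2.2.2.1]
          exact Subgroup.mul_mem _ hn1 hn1
        · exact hn1
      · show κ jidC ∈ _
        rw [h1]
        exact Subgroup.one_mem _
  · rintro x ⟨t, ht, rfl⟩
    rw [← (chkQ_spec t ht).1]
    exact hSmem _ (qB_lt t)
  · exact ⟨tz, by decide, by rw [m.2.2.2.2.1]⟩
  · apply conj_set_of_closure
    rintro a ⟨k, hk, rfl⟩ q ⟨t, ht, rfl⟩
    refine ⟨qN t k, qN_lt t k, ?_⟩
    have hq := chkQ_spec t ht
    have h3 : κ (cG k) * κ (qI t) = κ (qI (qN t k)) * κ (cG k) := by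
      interval_cases k
      · exact lift_mul3 h2 ω hω (hκ _ (cG_lt 0)) (hκ _ (qI_lt t ht)) (hκ _ (qI_lt _ (qN_lt t 0)))
          (hκ _ (cG_lt 0)) hq.2.1
      · exact lift_mul3 h2 ω hω (hκ _ (cG_lt 1)) (hκ _ (qI_lt t ht)) (hκ _ (qI_lt _ (qN_lt t 1)))
          (hκ _ (cG_lt 1)) hq.2.2
    rw [h3, mul_inv_cancel_right]
  · intro g hg hc
    obtain ⟨j, hj, rfl⟩ := mem_Cg h2 ω hω κ hκ g hg
    have h := (chkC_all j hj).2.2
    unfold chkZ at h
    cases hb : Nat.beq (iTagZ j) 1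
    · rw [hb] at h
      simp only [cond_false, Bool.not_eq_true'] at h
      exfalso
      have hq := qI_lt _ (iFZ_lt j)
      exact lift_ne3 h2 ω hω (hκ j hj) (hκ _ hq) (hκ _ hq) (hκ j hj) h (hc _ ⟨_, iFZ_lt j, rfl⟩)
    · rw [hb] at h
      simp only [cond_true] at h
      have h3 := lift_mul h2 ω hω (hκ _ (jW_lt _)) (hκ j hj) (hκ _ (jZ_lt _)) h
      have h4 : κ j = (κ (jW (Nat.land (iFZ j) 3)))⁻¹ * κ (jZ (Nat.shiftRight (iFZ j) 2)) := by
        rw [← h3, inv_mul_cancel_left]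
      rw [h4, sup_comm]
      apply Subgroup.mul_mem_sup (Subgroup.inv_mem _ (kap_W h2 ω hω κ hκ _))
      unfold jZ
      cases Nat.beq (Nat.shiftRight (iFZ j) 2) 0
      · exact Subgroup.subset_closure ⟨tz, by decide, by rw [m.2.2.2.2.1]; rfl⟩
      · show κ jidC ∈ _
        rw [h1]
        exact Subgroup.one_mem _
  · exact kap_mem_Cg h2 ω hω κ hκ _ (by decide)
  · exact kap_mem_Cg h2 ω hω κ hκ _ (by decide)
  · rw [pow_two, ← h1]
    exact lift_mul h2 ω hω (hκ _ (by decide)) (hκ _ (by decide)) (hκ _ (by decide)) m.2.2.2.2.2.2.2.1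
  · rw [pow_two, ← h1]
    exact lift_mul h2 ω hω (hκ _ (by decide)) (hκ _ (by decide)) (hκ _ (by decide)) m.2.2.2.2.2.2.2.2.1
  · exact (lift_mul h2 ω hω (hκ _ (by decide)) (hκ _ (by decide)) (hκ _ (by decide))
      m.2.2.2.2.2.2.2.2.2.1).symm
  · rintro i ⟨k, hk, rfl⟩
    have h3 : κ jn1 * κ (sI (sG k)) = κ (sI (nSg k)) * κ jn1 := by
      interval_cases k
      · exact lift_mul3 h2 ω hω (hκ _ (by decide)) (hsI _ (sG_lt 0)) (hsI _ (nSg_lt 0)) (hκ _ (by decide))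
          m.2.2.2.2.2.2.2.2.2.2.2.1
      · exact lift_mul3 h2 ω hω (hκ _ (by decide)) (hsI _ (sG_lt 1)) (hsI _ (nSg_lt 1)) (hκ _ (by decide))
          m.2.2.2.2.2.2.2.2.2.2.2.2.1
      · exact lift_mul3 h2 ω hω (hκ _ (by decide)) (hsI _ (sG_lt 2)) (hsI _ (nSg_lt 2)) (hκ _ (by decide))
          m.2.2.2.2.2.2.2.2.2.2.2.2.2.1
    rw [h3, mul_inv_cancel_right]
    exact hSmem _ (nSg_lt k)

end field

end Cfsg.Agent.Lib.Helper10.J3
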