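import Cfsg.Agent.Lib.Helper10.J3.Main

/-!
The group of the definitions is generated by two elements of order 19 and has order 150698880.
-/

set_option autoImplicit false

namespace Cfsg.Agent.Lib.Helper10.J3

open Cfsg.Spor Matrix

/-- `c ^ 19 = 1` on codes, with the list of the intermediate powers. -/
def pow19 (c : ℕ) : List ℕ → Bool
  | [c2, c4, c8, c16, c18] =>
    eqMul c c c2 && (eqMul c2 c2 c4 && (eqMul c4 c4 c8 && (eqMul c8 c8 c16 && (eqMul c16 c2 c18 && eqMul c18 c idC))))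
  | _ => false

theorem pow19_u : pow19 uC uP = true := by decide +kernel
theorem pow19_v : pow19 vC vP = true := by decide +kernel
theorem w_loc : eqMul (dT 0) (dH 4981) wC = true := by decide +kernel

theorem two_eq_zero {F : Type*} [Field F] [Fintype F] (hF : Fintype.card F = 4) : (2 : F) = 0 := by
  have h := Nat.cast_card_eq_zero F
  rw [hF] at h
  have h4 : (2 : F) ^ 2 = 0 := by
    have : (2 : F) ^ 2 = ((4 : ℕ) : F) := by norm_num
    rw [this, h]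
  exact pow_eq_zero_iff (by norm_num) |>.1 h4

section field
variable {F : Type*} [Field F] (h2 : (2 : F) = 0) (ω : F) (hω : ω ^ 2 + ω + 1 = 0)
include h2 hω

theorem pow19_sound {c : ℕ} {l : List ℕ} (h : pow19 c l = true) : decM ω c ^ 19 = 1 := by
  match l, h with
  | [c2, c4, c8, c16, c18], h =>
    unfold pow19 at h
    simp only [Bool.and_eq_true] at h
    obtain ⟨e2, e4, e8, e16, e18, e19⟩ := h
    have f2 := eqMul_sound h2 ω hω e2
    have f4 := eqMul_sound h2 ω hω e4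
    have f8 := eqMul_sound h2 ω hω e8
    have f16 := eqMul_sound h2 ω hω e16
    have f18 := eqMul_sound h2 ω hω e18
    have f19 := eqMul_sound h2 ω hω e19
    rw [decM_id h2 ω hω] at f19
    rw [← f19, ← f18, ← f16, ← f8, ← f4, ← f2]
    noncomm_ring

theorem memA (Z : F9) : ∃ x ∈ threeJ3 F ω, (x : Matrix F9 F9 F) = decM ω (gC 0 (ix Z)) := by
  obtain ⟨x, hx⟩ := exists_unit h2 ω hω (g_inv 0 (by norm_num) (ix Z) (ix_lt Z))
  refine ⟨x, Subgroup.subset_closure ?_, hx⟩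
  show (x : Matrix F9 F9 F) ∈ j3Gens F ω
  rw [hx, decM_gA h2 ω hω]
  exact Or.inl (Or.inl (Or.inl (Or.inl ⟨Z, rfl⟩)))

theorem memE (Z : F9) : ∃ x ∈ threeJ3 F ω, (x : Matrix F9 F9 F) = decM ω (gC 1 (ix Z)) := by
  obtain ⟨x, hx⟩ := exists_unit h2 ω hω (g_inv 1 (by norm_num) (ix Z) (ix_lt Z))
  refine ⟨x, Subgroup.subset_closure ?_, hx⟩
  show (x : Matrix F9 F9 F) ∈ j3Gens F ω
  rw [hx, decM_gE h2 ω hω]
  exact Or.inl (Or.inl (Or.inl (Or.inr ⟨Z, rfl⟩)))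

theorem memD (Z : F9) : ∃ x ∈ threeJ3 F ω, (x : Matrix F9 F9 F) = decM ω (gC 2 (ix Z)) := by
  obtain ⟨x, hx⟩ := exists_unit h2 ω hω (g_inv 2 (by norm_num) (ix Z) (ix_lt Z))
  refine ⟨x, Subgroup.subset_closure ?_, hx⟩
  show (x : Matrix F9 F9 F) ∈ j3Gens F ω
  rw [hx, decM_gD h2 ω hω]
  exact Or.inl (Or.inl (Or.inr ⟨Z, rfl⟩))

theorem memC (Z : F9) (hZ : Z ≠ 0) : ∃ x ∈ threeJ3 F ω, (x : Matrix F9 F9 F) = decM ω (gC 4 (ix Z)) := by
  obtain ⟨x, hx⟩ := exists_unit h2 ω hω (g_inv 4 (by norm_num) (ix Z) (ix_lt Z))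
  refine ⟨x, Subgroup.subset_closure ?_, hx⟩
  show (x : Matrix F9 F9 F) ∈ j3Gens F ω
  rw [hx, decM_gC h2 ω hω Z hZ]
  exact Or.inr ⟨Z, hZ, rfl⟩

theorem exists_su : ∃ x ∈ threeJ3 F ω, (x : Matrix F9 F9 F) = decM ω uC := by
  obtain ⟨a, ha, hae⟩ := memE h2 ω hω (0, 0)
  obtain ⟨b, hb, hbe⟩ := memD h2 ω hω (0, 1)
  obtain ⟨c, hc, hce⟩ := memC h2 ω hω (1, 0) (by decide)
  refine ⟨a * b * c, Subgroup.mul_mem _ (Subgroup.mul_mem _ ha hb) hc, ?_⟩
  have h := uW_ok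
  rw [Bool.and_eq_true] at h
  rw [Units.val_mul, Units.val_mul, hae, hbe, hce]
  show decM ω (gC 1 0) * decM ω (gC 2 1) * decM ω (gC 4 3) = _
  rw [eqMul_sound h2 ω hω h.1, eqMul_sound h2 ω hω h.2]

theorem exists_sv : ∃ x ∈ threeJ3 F ω, (x : Matrix F9 F9 F) = decM ω vC := by
  obtain ⟨a, ha, hae⟩ := memE h2 ω hω (0, 0)
  obtain ⟨b, hb, hbe⟩ := memC h2 ω hω (0, 1) (by decide)
  obtain ⟨c, hc, hce⟩ := memD h2 ω hω (1, 1)
  refine ⟨a * b * c, Subgroup.mul_mem _ (Subgroup.mul_mem _ ha hb) hc, ?_⟩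
  have h := vW_ok
  rw [Bool.and_eq_true] at h
  rw [Units.val_mul, Units.val_mul, hae, hbe, hce]
  show decM ω (gC 1 0) * decM ω (gC 4 1) * decM ω (gC 2 4) = _
  rw [eqMul_sound h2 ω hω h.1, eqMul_sound h2 ω hω h.2]

/-- the structure of the group of the definitions. -/
theorem structure_threeJ3 : ∃ su sv : (Matrix F9 F9 F)ˣ, su ^ 19 = 1 ∧ sv ^ 19 = 1 ∧
    threeJ3 F ω = Subgroup.closure {su, sv} ∧ Nat.card (threeJ3 F ω) = 150698880 ∧
    (∃ z ∈ threeJ3 F ω, (z : Matrix F9 F9 F) = ω • (1 : Matrix F9 F9 F)) ∧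
    (∀ x ∈ threeJ3 F ω, ∃ i < nT, ∃ j < nH, (x : Matrix F9 F9 F) = decM ω (dT i) * decM ω (dH j)) ∧
    (∀ i < nT, ∀ j < nH, ∃ x ∈ threeJ3 F ω, (x : Matrix F9 F9 F) = decM ω (dT i) * decM ω (dH j)) := by
  obtain ⟨su, hsu, hsue⟩ := exists_su h2 ω hω
  obtain ⟨sv, hsv, hsve⟩ := exists_sv h2 ω hω
  set s : ℕ → (Matrix F9 F9 F)ˣ := fun k => if k = 0 then su else sv with hs
  have hs0 : s 0 = su := rfl
  have hs1 : s 1 = sv := rfl
  have hsC : ∀ k < 2, (s k : Matrix F9 F9 F) = decM ω (sC k) := by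
    intro k hk
    interval_cases k
    · exact hsue
    · exact hsve
  have D := theTab h2 ω hω s hsC
  have hK : threeJ3 F ω = Subgroup.closure {s 0, s 1} := by
    apply le_antisymm
    · unfold threeJ3
      rw [Subgroup.closure_le]
      intro g hg
      have hg' : (g : Matrix F9 F9 F) ∈ j3Gens F ω := hg
      have key : ∀ f < 5, ∀ iz < 9, (g : Matrix F9 F9 F) = decM ω (gC f iz) →
          g ∈ Subgroup.closure {s 0, s 1} := by
        intro f hf iz hiz he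
        have h := g_loc f hf iz hiz
        simp only [Bool.and_eq_true, Nat.blt_eq] at h
        obtain ⟨x, hx, hxe⟩ := D.prod_mem _ h.1 _ h.2.1
        have : g = x := by
          apply Units.ext
          rw [he, hxe]
          exact (eqMul_sound h2 ω hω h.2.2).symm
        rw [this]
        exact hx
      rcases hg' with (((⟨Z, hZ⟩ | ⟨Z, hZ⟩) | ⟨Z, hZ⟩) | ⟨Z, hZ0, hZ⟩) | ⟨Z, hZ0, hZ⟩
      · exact key 0 (by norm_num) (ix Z) (ix_lt Z) (by rw [decM_gA h2 ω hω, hZ])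
      · exact key 1 (by norm_num) (ix Z) (ix_lt Z) (by rw [decM_gE h2 ω hω, hZ])
      · exact key 2 (by norm_num) (ix Z) (ix_lt Z) (by rw [decM_gD h2 ω hω, hZ])
      · exact key 3 (by norm_num) (ix Z) (ix_lt Z) (by rw [decM_gB h2 ω hω Z hZ0, hZ])
      · exact key 4 (by norm_num) (ix Z) (ix_lt Z) (by rw [decM_gC h2 ω hω Z hZ0, hZ])
    · rw [Subgroup.closure_le]
      rintro x (rfl | rfl)
      · exact hsu
      · exact hsv
  refine ⟨su, sv, ?_, ?_, hK, ?_, ?_, ?_, ?_⟩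
  · apply Units.ext
    rw [Units.val_pow_eq_pow_val, hsue, pow19_sound h2 ω hω pow19_u, Units.val_one]
  · apply Units.ext
    rw [Units.val_pow_eq_pow_val, hsve, pow19_sound h2 ω hω pow19_v, Units.val_one]
  · rw [hK]
    exact card_K h2 ω hω s hsC
  · obtain ⟨x, hx, hxe⟩ := D.prod_mem 0 (by decide) 4981 (by decide)
    refine ⟨x, hK ▸ hx, ?_⟩
    rw [hxe]
    show decM ω (dT 0) * decM ω (dH 4981) = _
    rw [eqMul_sound h2 ω hω w_loc, decM_w h2 ω hω]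
  · intro x hx
    exact D.mem_prod x (hK ▸ hx)
  · intro i hi j hj
    obtain ⟨x, hx, hxe⟩ := D.prod_mem i hi j hj
    exact ⟨x, hK ▸ hx, hxe⟩

end field

end Cfsg.Agent.Lib.Helper10.J3
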