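import Mathlib

/-!
A verified two-level coset table: the subgroup of the units of a monoid generated by two units is the set of the
products `τ i * η j`.
-/

set_option autoImplicit false
open scoped Pointwise

namespace Cfsg.Agent.Lib.Helper10.J3

theorem closure_subset_of_finite {Γ : Type*} [Group Γ] (S P : Set Γ) (hP : P.Finite) (h1 : (1 : Γ) ∈ P)
    (hS : ∀ s ∈ S, ∀ p ∈ P, s * p ∈ P) : ∀ x ∈ Subgroup.closure S, x ∈ P := by
  have hle : Subgroup.closure S ≤ MulAction.stabilizer Γ P := by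
    rw [Subgroup.closure_le]
    intro s hs
    rw [SetLike.mem_coe, MulAction.mem_stabilizer_iff]
    apply Set.eq_of_subset_of_ncard_le _ _ hP
    · rintro _ ⟨p, hp, rfl⟩
      exact hS s hs p hp
    · rw [Set.ncard_smul_set]
  intro x hx
  have h := hle hx
  rw [MulAction.mem_stabilizer_iff] at h
  rw [← h]
  exact ⟨1, h1, by simp⟩

variable {M : Type*} [Monoid M]

/-- the data of a verified table. -/
structure Tab (s : ℕ → Mˣ) (τ η : ℕ → M) (nT nH jid : ℕ) (g : ℕ → ℕ) : Prop where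
  tab : ∀ i < nT, ∀ k < 2, ∃ i' < nT, ∃ j < nH, (s k : M) * τ i = τ i' * η j
  t0 : τ 0 = 1
  nT_pos : 0 < nT
  ttree : ∃ dep : ℕ → ℕ, ∀ i < nT, i ≠ 0 → ∃ p < nT, ∃ k < 2, dep p < dep i ∧ (s k : M) * τ p = τ i
  htab : ∀ j < nH, ∀ k < 2, ∃ j' < nH, η (g k) * η j = η j'
  h0 : η jid = 1
  jid_lt : jid < nH
  htree : ∃ dep : ℕ → ℕ, ∀ j < nH, j ≠ jid → ∃ p < nH, ∃ k < 2, dep p < dep j ∧ η (g k) * η p = η j
  hgen : ∀ k < 2, ∃ i < nT, ∃ k' < 2, ∃ i' < nT, (s k' : M) * τ i = τ i' * η (g k)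

namespace Tab

variable {s : ℕ → Mˣ} {τ η : ℕ → M} {nT nH jid : ℕ} {g : ℕ → ℕ}

theorem hmul (D : Tab s τ η nT nH jid g) : ∀ a < nH, ∀ b < nH, ∃ c < nH, η a * η b = η c := by
  obtain ⟨dep, hdep⟩ := D.htree
  have key : ∀ d a, dep a = d → a < nH → ∀ b < nH, ∃ c < nH, η a * η b = η c := by
    intro d
    induction d using Nat.strong_induction_on with
    | _ d ih =>
      intro a had ha b hb
      by_cases haj : a = jid
      · exact ⟨b, hb, by rw [haj, D.h0, one_mul]⟩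
      · obtain ⟨p, hp, k, hk, hlt, he⟩ := hdep a ha haj
        obtain ⟨c, hc, hce⟩ := ih (dep p) (had ▸ hlt) p rfl hp b hb
        obtain ⟨c', hc', hce'⟩ := D.htab c hc k hk
        exact ⟨c', hc', by rw [← he, mul_assoc, hce, hce']⟩
  intro a ha b hb
  exact key _ a rfl ha b hb

theorem mem_prod (D : Tab s τ η nT nH jid g) :
    ∀ x ∈ Subgroup.closure ({s 0, s 1} : Set Mˣ), ∃ i < nT, ∃ j < nH, (x : M) = τ i * η j := by
  apply closure_subset_of_finite ({s 0, s 1} : Set Mˣ) {x : Mˣ | ∃ i < nT, ∃ j < nH, (x : M) = τ i * η j}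
  · have hfin : ((fun q : ℕ × ℕ => τ q.1 * η q.2) '' ((Finset.range nT ×ˢ Finset.range nH : Finset (ℕ × ℕ)) : Set (ℕ × ℕ))).Finite :=
      Set.Finite.image _ (Finset.finite_toSet _)
    apply Set.Finite.subset (Set.Finite.preimage (f := fun x : Mˣ => (x : M)) (Units.val_injective.injOn) hfin)
    rintro x ⟨i, hi, j, hj, he⟩
    refine ⟨(i, j), ?_, he.symm⟩
    simp [hi, hj]
  · exact ⟨0, D.nT_pos, jid, D.jid_lt, by rw [D.t0, D.h0, one_mul, Units.val_one]⟩
  · intro t ht x hx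
    obtain ⟨i, hi, j, hj, he⟩ := hx
    have : ∃ k < 2, t = s k := by
      rcases ht with h | h
      · exact ⟨0, by norm_num, h⟩
      · exact ⟨1, by norm_num, h⟩
    obtain ⟨k, hk, rfl⟩ := this
    obtain ⟨i', hi', j', hj', he'⟩ := D.tab i hi k hk
    obtain ⟨c, hc, hce⟩ := D.hmul j' hj' j hj
    exact ⟨i', hi', c, hc, by rw [Units.val_mul, he, ← mul_assoc, he', mul_assoc, hce]⟩

theorem s_mem (s : ℕ → Mˣ) : ∀ k < 2, s k ∈ Subgroup.closure ({s 0, s 1} : Set Mˣ) := by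
  intro k hk
  apply Subgroup.subset_closure
  interval_cases k
  · exact Or.inl rfl
  · exact Or.inr rfl

theorem t_mem (D : Tab s τ η nT nH jid g) :
    ∀ i < nT, ∃ x ∈ Subgroup.closure ({s 0, s 1} : Set Mˣ), (x : M) = τ i := by
  obtain ⟨dep, hdep⟩ := D.ttree
  have key : ∀ d i, dep i = d → i < nT → ∃ x ∈ Subgroup.closure ({s 0, s 1} : Set Mˣ), (x : M) = τ i := by
    intro d
    induction d using Nat.strong_induction_on with
    | _ d ih =>
      intro i hid hi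
      by_cases hi0 : i = 0
      · exact ⟨1, Subgroup.one_mem _, by rw [hi0, D.t0, Units.val_one]⟩
      · obtain ⟨p, hp, k, hk, hlt, he⟩ := hdep i hi hi0
        obtain ⟨x, hx, hxe⟩ := ih (dep p) (hid ▸ hlt) p rfl hp
        exact ⟨s k * x, Subgroup.mul_mem _ (s_mem s k hk) hx, by rw [Units.val_mul, hxe, he]⟩
  intro i hi
  exact key _ i rfl hi

theorem g_mem (D : Tab s τ η nT nH jid g) :
    ∀ k < 2, ∃ x ∈ Subgroup.closure ({s 0, s 1} : Set Mˣ), (x : M) = η (g k) := by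
  intro k hk
  obtain ⟨i, hi, k', hk', i', hi', he⟩ := D.hgen k hk
  obtain ⟨x, hx, hxe⟩ := D.t_mem i hi
  obtain ⟨x', hx', hxe'⟩ := D.t_mem i' hi'
  refine ⟨x'⁻¹ * (s k' * x), Subgroup.mul_mem _ (Subgroup.inv_mem _ hx') (Subgroup.mul_mem _ (s_mem s k' hk') hx), ?_⟩
  rw [Units.val_mul, Units.val_mul, hxe, he, ← hxe', ← mul_assoc, Units.inv_mul, one_mul]

theorem h_mem (D : Tab s τ η nT nH jid g) :
    ∀ j < nH, ∃ x ∈ Subgroup.closure ({s 0, s 1} : Set Mˣ), (x : M) = η j := by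
  obtain ⟨dep, hdep⟩ := D.htree
  have key : ∀ d j, dep j = d → j < nH → ∃ x ∈ Subgroup.closure ({s 0, s 1} : Set Mˣ), (x : M) = η j := by
    intro d
    induction d using Nat.strong_induction_on with
    | _ d ih =>
      intro j hjd hj
      by_cases hj0 : j = jid
      · exact ⟨1, Subgroup.one_mem _, by rw [hj0, D.h0, Units.val_one]⟩
      · obtain ⟨p, hp, k, hk, hlt, he⟩ := hdep j hj hj0
        obtain ⟨x, hx, hxe⟩ := ih (dep p) (hjd ▸ hlt) p rfl hp
        obtain ⟨y, hy, hye⟩ := D.g_mem k hk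
        exact ⟨y * x, Subgroup.mul_mem _ hy hx, by rw [Units.val_mul, hxe, hye, he]⟩
  intro j hj
  exact key _ j rfl hj

theorem prod_mem (D : Tab s τ η nT nH jid g) :
    ∀ i < nT, ∀ j < nH, ∃ x ∈ Subgroup.closure ({s 0, s 1} : Set Mˣ), (x : M) = τ i * η j := by
  intro i hi j hj
  obtain ⟨x, hx, hxe⟩ := D.t_mem i hi
  obtain ⟨y, hy, hye⟩ := D.h_mem j hj
  exact ⟨x * y, Subgroup.mul_mem _ hx hy, by rw [Units.val_mul, hxe, hye]⟩

theorem card_closure (D : Tab s τ η nT nH jid g)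
    (hinj : ∀ i < nT, ∀ i' < nT, ∀ j < nH, ∀ j' < nH, τ i * η j = τ i' * η j' → i = i' ∧ j = j') :
    Nat.card (Subgroup.closure ({s 0, s 1} : Set Mˣ)) = nT * nH := by
  have hex : ∀ q : Fin nT × Fin nH, ∃ x : Subgroup.closure ({s 0, s 1} : Set Mˣ),
      ((x : Mˣ) : M) = τ q.1 * η q.2 := by
    intro q
    obtain ⟨x, hx, he⟩ := D.prod_mem q.1 q.1.2 q.2 q.2.2
    exact ⟨⟨x, hx⟩, he⟩
  choose f hf using hex
  have hb : Function.Bijective f := by
    constructor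
    · intro q q' h
      have h1 := hf q
      rw [h, hf q'] at h1
      obtain ⟨e1, e2⟩ := hinj _ q'.1.2 _ q.1.2 _ q'.2.2 _ q.2.2 h1
      exact (Prod.ext (Fin.ext e1) (Fin.ext e2)).symm
    · intro x
      obtain ⟨i, hi, j, hj, he⟩ := D.mem_prod x x.2
      refine ⟨(⟨i, hi⟩, ⟨j, hj⟩), ?_⟩
      apply Subtype.ext
      apply Units.ext
      rw [hf, he]
  rw [← Nat.card_eq_of_bijective f hb, Nat.card_prod, Nat.card_fin, Nat.card_fin]

end Tab

end Cfsg.Agent.Lib.Helper10.J3
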