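import Cfsg.Agent.Lib.Helper10.J3.VT0
import Cfsg.Agent.Lib.Helper10.J3.VT1
import Cfsg.Agent.Lib.Helper10.J3.VT2
import Cfsg.Agent.Lib.Helper10.J3.VT3
import Cfsg.Agent.Lib.Helper10.J3.VT4
import Cfsg.Agent.Lib.Helper10.J3.VT5
import Cfsg.Agent.Lib.Helper10.J3.VH
import Cfsg.Agent.Lib.Helper10.J3.Gens
import Cfsg.Agent.Lib.Helper10.J3.Tab

/-!
The order of the triple cover of the third Janko group.
-/

set_option autoImplicit false

namespace Cfsg.Agent.Lib.Helper10.J3

open Cfsg.Spor Matrix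

theorem chkTall_all : ∀ i < nT, chkT i 0 = true ∧ chkT i 1 = true ∧ chkTree i = true ∧ chkY i = true := by
  intro i hi
  have hi' : i < 23256 := hi
  have h : chkTall i = true := by
    rcases lt_or_ge i 4096 with h0 | h0
    · exact allB_spec 12 0 _ vt0 i (by omega) (by norm_num; omega)
    rcases lt_or_ge i 8192 with h1 | h1
    · exact allB_spec 12 4096 _ vt1 i (by omega) (by norm_num; omega)
    rcases lt_or_ge i 12288 with h2 | h2
    · exact allB_spec 12 8192 _ vt2 i (by omega) (by norm_num; omega)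
    rcases lt_or_ge i 16384 with h3 | h3
    · exact allB_spec 12 12288 _ vt3 i (by omega) (by norm_num; omega)
    rcases lt_or_ge i 20480 with h4 | h4
    · exact allB_spec 12 16384 _ vt4 i (by omega) (by norm_num; omega)
    · exact allB_spec 12 20480 _ vt5 i (by omega) (by norm_num; omega)
  unfold chkTall at h
  rw [Bool.or_eq_true] at h
  rcases h with h | h
  · rw [Nat.ble_eq] at h
    exact absurd hi (not_lt.mpr h)
  · simp only [Bool.and_eq_true] at h
    exact ⟨h.1, h.2.1, h.2.2.1, h.2.2.2⟩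

theorem chkHall_all : ∀ j < nH, chkH j 0 = true ∧ chkH j 1 = true ∧ chkHtree j = true ∧ chkH0 j = true := by
  intro j hj
  have hj' : j < 6480 := hj
  have h : chkHall j = true := allB_spec 13 0 _ vh j (by omega) (by norm_num; omega)
  unfold chkHall at h
  rw [Bool.or_eq_true] at h
  rcases h with h | h
  · rw [Nat.ble_eq] at h
    exact absurd hj (not_lt.mpr h)
  · simp only [Bool.and_eq_true] at h
    exact ⟨h.1, h.2.1, h.2.2.1, h.2.2.2⟩

theorem dT_zero : dT 0 = idC := by decide +kernel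
theorem dH_jid : dH jid = idC := by decide +kernel
theorem wit0 : tJ 2072 0 = gI 0 := by decide +kernel
theorem wit1 : tJ 15686 0 = gI 1 := by decide +kernel
theorem uW_ok : (eqMul (gC 1 0) (gC 2 1) uW && eqMul uW (gC 4 3) uC) = true := by decide +kernel
theorem vW_ok : (eqMul (gC 1 0) (gC 4 1) vW && eqMul vW (gC 2 4) vC) = true := by decide +kernel

theorem lt_of_step (f : ℕ → ℕ) (n : ℕ) (h : ∀ i, i + 1 < n → f i < f (i + 1)) :
    ∀ i j, i < j → j < n → f i < f j := by
  intro i j hij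
  induction j, hij using Nat.le_induction with
  | base => intro hn; exact h i hn
  | succ j hj ih =>
    intro hn
    exact lt_trans (ih (by omega)) (h j hn)

theorem inj_of_step (f : ℕ → ℕ) (n : ℕ) (h : ∀ i, i + 1 < n → f i < f (i + 1)) :
    ∀ i < n, ∀ j < n, f i = f j → i = j := by
  intro i hi j hj he
  rcases lt_trichotomy i j with hlt | heq | hgt
  · exact absurd he (ne_of_lt (lt_of_step f n h i j hlt hj))
  · exact heq
  · exact absurd he.symm (ne_of_lt (lt_of_step f n h j i hgt hi))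

theorem yL_inj : ∀ i < nT, ∀ j < nT, yL i = yL j → i = j := by
  apply inj_of_step
  intro i hi
  have h := (chkTall_all i (by omega)).2.2.2
  unfold chkY at h
  simp only [Bool.and_eq_true, Bool.or_eq_true, Nat.ble_eq, Nat.blt_eq] at h
  rcases h.2.2.2 with h | h
  · exact absurd hi (not_lt.mpr h)
  · exact h

theorem dH_inj : ∀ i < nH, ∀ j < nH, dH i = dH j → i = j := by
  apply inj_of_step
  intro i hi
  have h := (chkHall_all i (by omega)).2.2.2
  unfold chkH0 at h
  simp only [Bool.and_eq_true, Bool.or_eq_true, Nat.ble_eq, Nat.blt_eq] at h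
  rcases h.2 with h | h
  · exact absurd hi (not_lt.mpr h)
  · exact h

theorem dH_lt (j : ℕ) : dH j < 2 ^ 162 := by
  unfold dH look
  rw [land_eq]
  exact Nat.and_lt_two_pow _ (by norm_num)

theorem nrm_app (i : ℕ) (hi : i < nT) (j : ℕ) (hj : j < nH) : nrm (appC (dT i) (col (dH j) 0)) = yL i := by
  have h := (chkTall_all i hi).2.2.2
  unfold chkY at h
  simp only [Bool.and_eq_true, Nat.beq_eq] at h
  have h' := (chkHall_all j hj).2.2.2
  unfold chkH0 at h'
  simp only [Bool.and_eq_true, Bool.or_eq_true, Nat.beq_eq] at h'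
  rcases h'.1 with e | e | e
  · rw [e]; exact h.1
  · rw [e]; exact h.2.1
  · rw [e]; exact h.2.2.1

section field
variable {F : Type*} [Field F] (h2 : (2 : F) = 0) (ω : F) (hω : ω ^ 2 + ω + 1 = 0)
include h2 hω

theorem tabEq (s : ℕ → (Matrix F9 F9 F)ˣ) (hs : ∀ k < 2, (s k : Matrix F9 F9 F) = decM ω (sC k)) :
    ∀ i < nT, ∀ k < 2, tI i k < nT ∧ tJ i k < nH ∧
      (s k : Matrix F9 F9 F) * decM ω (dT i) = decM ω (dT (tI i k)) * decM ω (dH (tJ i k)) := by
  intro i hi k hk
  have h : chkT i k = true := by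
    interval_cases k
    · exact (chkTall_all i hi).1
    · exact (chkTall_all i hi).2.1
  unfold chkT at h
  simp only [Bool.and_eq_true, Nat.blt_eq] at h
  refine ⟨h.1, h.2.1, ?_⟩
  rw [hs k hk]
  cases hb : Nat.beq (tJ i k) jid
  · have h3 := h.2.2
    rw [hb] at h3
    exact eqMul3_sound h2 ω hω h3
  · have h3 := h.2.2
    rw [hb] at h3
    rw [Nat.beq_eq] at hb
    rw [hb, dH_jid, decM_id h2 ω hω, mul_one]
    exact eqMul_sound h2 ω hω h3

theorem htabEq : ∀ j < nH, ∀ k < 2, hJ j k < nH ∧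
      decM ω (dH (gI k)) * decM ω (dH j) = decM ω (dH (hJ j k)) := by
  intro j hj k hk
  have h : chkH j k = true := by
    interval_cases k
    · exact (chkHall_all j hj).1
    · exact (chkHall_all j hj).2.1
  unfold chkH at h
  simp only [Bool.and_eq_true, Nat.blt_eq] at h
  exact ⟨h.1, eqMul_sound h2 ω hω h.2⟩

theorem theTab (s : ℕ → (Matrix F9 F9 F)ˣ) (hs : ∀ k < 2, (s k : Matrix F9 F9 F) = decM ω (sC k)) :
    Tab s (fun i => decM ω (dT i)) (fun j => decM ω (dH j)) nT nH jid gI where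
  tab := by
    intro i hi k hk
    obtain ⟨a, b, c⟩ := tabEq h2 ω hω s hs i hi k hk
    exact ⟨_, a, _, b, c⟩
  t0 := by
    show decM ω (dT 0) = 1
    rw [dT_zero, decM_id h2 ω hω]
  nT_pos := by decide
  ttree := by
    refine ⟨pD, ?_⟩
    intro i hi hi0
    have h := (chkTall_all i hi).2.2.1
    unfold chkTree at h
    simp only [Bool.and_eq_true, Bool.or_eq_true, Nat.beq_eq, Nat.blt_eq] at h
    rcases h with h | h
    · exact absurd h hi0
    · have hk : pK i < 2 := by
        unfold pK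
        rw [land_eq, Nat.and_one_is_mod]
        exact Nat.mod_lt _ (by norm_num)
      obtain ⟨_, _, c⟩ := tabEq h2 ω hω s hs (pP i) h.1 (pK i) hk
      refine ⟨pP i, h.1, pK i, hk, h.2.2.2, ?_⟩
      show (s (pK i) : Matrix F9 F9 F) * decM ω (dT (pP i)) = decM ω (dT i)
      rw [c, h.2.1, h.2.2.1, dH_jid, decM_id h2 ω hω, mul_one]
  htab := by
    intro j hj k hk
    obtain ⟨a, b⟩ := htabEq h2 ω hω j hj k hk
    exact ⟨_, a, b⟩
  h0 := by
    show decM ω (dH jid) = 1
    rw [dH_jid, decM_id h2 ω hω]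
  jid_lt := by decide
  htree := by
    refine ⟨qD, ?_⟩
    intro j hj hj0
    have h := (chkHall_all j hj).2.2.1
    unfold chkHtree at h
    simp only [Bool.and_eq_true, Bool.or_eq_true, Nat.beq_eq, Nat.blt_eq] at h
    rcases h with h | h
    · exact absurd h hj0
    · have hk : qK j < 2 := by
        unfold qK
        rw [land_eq, Nat.and_one_is_mod]
        exact Nat.mod_lt _ (by norm_num)
      obtain ⟨_, c⟩ := htabEq h2 ω hω (qP j) h.1 (qK j) hk
      refine ⟨qP j, h.1, qK j, hk, h.2.2, ?_⟩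
      show decM ω (dH (gI (qK j))) * decM ω (dH (qP j)) = decM ω (dH j)
      rw [c, h.2.1]
  hgen := by
    intro k hk
    interval_cases k
    · obtain ⟨a, _, c⟩ := tabEq h2 ω hω s hs 2072 (by decide) 0 (by norm_num)
      exact ⟨2072, by decide, 0, by norm_num, _, a, by rw [← wit0]; exact c⟩
    · obtain ⟨a, _, c⟩ := tabEq h2 ω hω s hs 15686 (by decide) 0 (by norm_num)
      exact ⟨15686, by decide, 0, by norm_num, _, a, by rw [← wit1]; exact c⟩

theorem prod_inj (s : ℕ → (Matrix F9 F9 F)ˣ) (hs : ∀ k < 2, (s k : Matrix F9 F9 F) = decM ω (sC k)) :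
    ∀ i < nT, ∀ i' < nT, ∀ j < nH, ∀ j' < nH,
      decM ω (dT i) * decM ω (dH j) = decM ω (dT i') * decM ω (dH j') → i = i' ∧ j = j' := by
  intro i hi i' hi' j hj j' hj' he
  have h1 : decV ω (appC (dT i) (col (dH j) 0)) = decV ω (appC (dT i') (col (dH j') 0)) := by
    ext w
    have := congrFun (congrFun he w) (0 : F9)
    rw [decM_mul_apply h2 ω hω, decM_mul_apply h2 ω hω] at this
    exact this
  have h3 := decV_inj h2 ω hω (appC_lt _ _) (appC_lt _ _) h1
  have h4 : yL i = yL i' := by rw [← nrm_app i hi j hj, ← nrm_app i' hi' j' hj', h3]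
  have h5 := yL_inj i hi i' hi' h4
  subst h5
  refine ⟨rfl, ?_⟩
  obtain ⟨x, _, hx⟩ := (theTab h2 ω hω s hs).t_mem i hi
  have hx' : (x : Matrix F9 F9 F) = decM ω (dT i) := hx
  rw [← hx'] at he
  have h6 := x.mul_right_inj.mp he
  exact dH_inj j hj j' hj' (decM_inj h2 ω hω (dH_lt _) (dH_lt _) h6)

theorem card_K (s : ℕ → (Matrix F9 F9 F)ˣ) (hs : ∀ k < 2, (s k : Matrix F9 F9 F) = decM ω (sC k)) :
    Nat.card (Subgroup.closure ({s 0, s 1} : Set (Matrix F9 F9 F)ˣ)) = 150698880 := by
  rw [(theTab h2 ω hω s hs).card_closure (prod_inj h2 ω hω s hs)]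
  rfl

end field

end Cfsg.Agent.Lib.Helper10.J3
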