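import Cfsg.Agent.Lib.Helper10.J3.FDefs
import Cfsg.Agent.Lib.Helper10.J3.DataO

/-!
Boolean checks for the bound on the number of automorphisms of the third Janko group.
-/

set_option autoImplicit false

namespace Cfsg.Agent.Lib.Helper10.J3

/-- selection of one of three things by a letter. -/
def sel {α : Type*} (c0 c1 c2 : α) (l : ℕ) : α := cond (Nat.beq l 0) c0 (cond (Nat.beq l 1) c1 c2)

/-- a word of matrix codes applied to a vector code. -/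
def appP (c0 c1 c2 : ℕ) : List ℕ → ℕ → ℕ
  | [], v => v
  | l :: t, v => appC (sel c0 c1 c2 l) (appP c0 c1 c2 t v)

/-- a power of a word applied to a vector code. -/
def appPk (c0 c1 c2 : ℕ) (p : List ℕ) : ℕ → ℕ → ℕ
  | 0, v => v
  | k + 1, v => appP c0 c1 c2 p (appPk c0 c1 c2 p k v)

def notProp (r v : ℕ) : Bool :=
  !(Nat.beq r v) && (!(Nat.beq r (wmul v)) && !(Nat.beq r (wmul (wmul v))))

def tP (i : ℕ) : List ℕ :=
  cond (Nat.beq i 0) [2, 0] (cond (Nat.beq i 1) [2, 1] (cond (Nat.beq i 2) [2, 1, 1] [2, 0, 1]))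
def tK (i : ℕ) : ℕ := cond (Nat.beq i 0) 3 (cond (Nat.beq i 1) 9 (cond (Nat.beq i 2) 10 12))

def gX (m : ℕ) : ℕ := Nat.land (Nat.shiftRight (dG m) 1) 15
def gVv (m : ℕ) : ℕ := Nat.shiftRight (dG m) 5

def chkG (m : ℕ) : Bool :=
  Nat.ble nY m || cond (Nat.beq (Nat.land (dG m) 1) 1)
    (Nat.beq (svG (gX m)) m && Nat.blt (gX m) 10)
    (notProp (appPk (dC jz) (dC jf) (dY m) (tP (gX m)) (tK (gX m)) (gVv m)) (gVv m))

def fKd (j : ℕ) : ℕ := Nat.land (dF j) 3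
def fPl (j : ℕ) : ℕ := Nat.shiftRight (dF j) 2

def chkF (j : ℕ) : Bool :=
  Nat.ble nC j || cond (Nat.beq (fKd j) 0)
    (notProp (appPk 0 0 (dC j) [2] 5 (fPl j)) (fPl j))
    (cond (Nat.beq (fKd j) 1) (Nat.beq (jW (fPl j)) j)
      (Nat.blt (Nat.shiftRight (fPl j) 2) 384 && (Nat.blt (rF (Nat.shiftRight (fPl j) 2)) nC &&
        eqMul (dC (jW (Nat.land (fPl j) 3))) (dC (rF (Nat.shiftRight (fPl j) 2))) (dC j))))

/-- the word `p ^ k` in the three codes is the identity. -/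
def isOne (c0 c1 c2 : ℕ) (p : List ℕ) (k : ℕ) : Bool :=
  Nat.beq (appPk c0 c1 c2 p k 1) 1 && (Nat.beq (appPk c0 c1 c2 p k 2) 2 &&
  (Nat.beq (appPk c0 c1 c2 p k 4) 4 && (Nat.beq (appPk c0 c1 c2 p k 8) 8 &&
  (Nat.beq (appPk c0 c1 c2 p k 16) 16 && (Nat.beq (appPk c0 c1 c2 p k 32) 32 &&
  (Nat.beq (appPk c0 c1 c2 p k 64) 64 && (Nat.beq (appPk c0 c1 c2 p k 128) 128 &&
  Nat.beq (appPk c0 c1 c2 p k 256) 256)))))))

def chkRel : Bool :=
  isOne (dC jz) (dC jf) (dY mg) (tP 0) (tK 0) && (isOne (dC jz) (dC jf) (dY mg) (tP 1) (tK 1) &&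
  (isOne (dC jz) (dC jf) (dY mg) (tP 2) (tK 2) && (isOne (dC jz) (dC jf) (dY mg) (tP 3) (tK 3) &&
  isOne 0 0 (dC jf) [2] 5)))

def wA (t : ℕ) : ℕ := Nat.land (dWp t) 255
def wB (t : ℕ) : ℕ := Nat.shiftRight (dWp t) 8

def chkW (t : ℕ) : Bool :=
  Nat.ble nW t || (Nat.blt t 3 || (Nat.blt (wA t) t && (Nat.blt (wB t) t && eqMul (dW (wA t)) (dW (wB t)) (dW t))))

def chkW0 : Bool :=
  Nat.beq (dW 0) (dC jz) && (Nat.beq (dW 1) (dC jf) && (Nat.beq (dW 2) (dY mg) &&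
    (Nat.beq (dW eu) uC && Nat.beq (dW ev) vC)))

end Cfsg.Agent.Lib.Helper10.J3
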