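import Cfsg.Agent.Lib.Helper10.J3.VO
import Cfsg.Agent.Lib.Helper10.J3.FusC

/-!
Words in three elements, their evaluation on vector codes, and the meaning of the checks used for the bound on the
number of automorphisms of the third Janko group.
-/

set_option autoImplicit false

namespace Cfsg.Agent.Lib.Helper10.J3

open Cfsg.Spor Matrix

/-- a word in three elements. -/
def wd {G : Type*} [Monoid G] (x0 x1 x2 : G) (p : List ℕ) : G := (p.map (sel x0 x1 x2)).prod

theorem map_sel {α β : Type*} (φ : α → β) (x0 x1 x2 : α) (l : ℕ) :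
    φ (sel x0 x1 x2 l) = sel (φ x0) (φ x1) (φ x2) l := by
  unfold sel
  cases Nat.beq l 0 <;> cases Nat.beq l 1 <;> rfl

theorem map_wd {G H : Type*} [Monoid G] [Monoid H] (φ : G →* H) (x0 x1 x2 : G) (p : List ℕ) :
    φ (wd x0 x1 x2 p) = wd (φ x0) (φ x1) (φ x2) p := by
  unfold wd
  rw [map_list_prod, List.map_map]
  congr 1
  apply List.map_congr_left
  intro l _
  exact map_sel φ x0 x1 x2 l

theorem appP_lt (c0 c1 c2 : ℕ) (p : List ℕ) (v : ℕ) (hv : v < 2 ^ 18) : appP c0 c1 c2 p v < 2 ^ 18 := by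
  cases p with
  | nil => exact hv
  | cons l t => exact appC_lt _ _

theorem appPk_lt (c0 c1 c2 : ℕ) (p : List ℕ) (k v : ℕ) (hv : v < 2 ^ 18) : appPk c0 c1 c2 p k v < 2 ^ 18 := by
  induction k with
  | zero => exact hv
  | succ k ih => exact appP_lt _ _ _ _ _ ih

section field
variable {F : Type*} [Field F] (h2 : (2 : F) = 0) (ω : F) (hω : ω ^ 2 + ω + 1 = 0)
include h2 hω

theorem appP_sound (c0 c1 c2 : ℕ) (p : List ℕ) (v : ℕ) :
    decV ω (appP c0 c1 c2 p v) = wd (decM ω c0) (decM ω c1) (decM ω c2) p *ᵥ decV ω v := by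
  induction p with
  | nil => simp [appP, wd]
  | cons l t ih =>
    have : wd (decM ω c0) (decM ω c1) (decM ω c2) (l :: t) =
        decM ω (sel c0 c1 c2 l) * wd (decM ω c0) (decM ω c1) (decM ω c2) t := by
      unfold wd
      rw [List.map_cons, List.prod_cons, map_sel (decM ω)]
    rw [this, ← Matrix.mulVec_mulVec, ← ih, decM_mulVec h2 ω hω]
    rfl

theorem appPk_sound (c0 c1 c2 : ℕ) (p : List ℕ) (k v : ℕ) :
    decV ω (appPk c0 c1 c2 p k v) = (wd (decM ω c0) (decM ω c1) (decM ω c2) p) ^ k *ᵥ decV ω v := by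
  induction k with
  | zero => simp [appPk]
  | succ k ih =>
    rw [pow_succ', ← Matrix.mulVec_mulVec, ← ih, ← appP_sound h2 ω hω]
    rfl

omit h2 hω in
theorem mat_wd {x0 x1 x2 : threeJ3 F ω} {c0 c1 c2 : ℕ} (h0 : mat ω x0 = decM ω c0) (h1 : mat ω x1 = decM ω c1)
    (h2' : mat ω x2 = decM ω c2) (p : List ℕ) (k : ℕ) :
    mat ω (wd x0 x1 x2 p ^ k) = (wd (decM ω c0) (decM ω c1) (decM ω c2) p) ^ k := by
  rw [map_pow, map_wd, h0, h1, h2']

omit h2 hω in
theorem decV_two_pow (z w : F9) : decV ω (2 ^ ix z) w = if w = z then 1 else 0 := by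
  unfold decV
  have hz := ix_lt z
  have hw := ix_lt w
  rw [Nat.testBit_two_pow, Nat.testBit_two_pow]
  have h9 : ¬ (ix z = ix w + 9) := by omega
  by_cases h : w = z
  · subst h
    simp [b2]
  · have : ¬ (ix z = ix w) := fun e => h (ix_injective e).symm
    simp [b2, h, this, h9]

theorem eq_one_of_isOne {c0 c1 c2 : ℕ} {p : List ℕ} {k : ℕ} (h : isOne c0 c1 c2 p k = true) :
    (wd (decM ω c0) (decM ω c1) (decM ω c2) p) ^ k = 1 := by
  have key : ∀ j < 9, appPk c0 c1 c2 p k (2 ^ j) = 2 ^ j := by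
    unfold isOne at h
    simp only [Bool.and_eq_true, Nat.beq_eq] at h
    obtain ⟨h0, h1, h2, h3, h4, h5, h6, h7, h8⟩ := h
    intro j hj
    interval_cases j
    exacts [h0, h1, h2, h3, h4, h5, h6, h7, h8]
  ext w z
  have h1 := congrFun (appPk_sound h2 ω hω c0 c1 c2 p k (2 ^ ix z)) w
  rw [key _ (ix_lt z)] at h1
  have h3 : ((wd (decM ω c0) (decM ω c1) (decM ω c2) p) ^ k *ᵥ decV ω (2 ^ ix z)) w =
      ((wd (decM ω c0) (decM ω c1) (decM ω c2) p) ^ k) w z := by
    unfold Matrix.mulVec dotProduct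
    rw [Finset.sum_eq_single z]
    · rw [decV_two_pow ω, if_pos rfl, mul_one]
    · intro b _ hb
      rw [decV_two_pow ω, if_neg hb, mul_zero]
    · intro hz
      exact absurd (Finset.mem_univ z) hz
  rw [← h3, ← h1, decV_two_pow ω, Matrix.one_apply]

end field

section field4
variable {F : Type*} [Field F] [Fintype F] (hF : Fintype.card F = 4) (ω : F) (hω : ω ^ 2 + ω + 1 = 0)
include hF hω

/-- a power of a word which moves a line is not central. -/
theorem not_center_of_notProp {x0 x1 x2 : threeJ3 F ω} {c0 c1 c2 : ℕ} (h0 : mat ω x0 = decM ω c0)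
    (h1 : mat ω x1 = decM ω c1) (h2' : mat ω x2 = decM ω c2) (p : List ℕ) (k v : ℕ) (hv : v < 2 ^ 18)
    (h : notProp (appPk c0 c1 c2 p k v) v = true) : wd x0 x1 x2 p ^ k ∉ Subgroup.center (threeJ3 F ω) := by
  have h2 := two_eq_zero hF
  intro hc
  have hs := center_scalar hF ω hω _ hc
  have hm := mat_wd ω h0 h1 h2' p k
  have hm' : ((wd x0 x1 x2 p ^ k : threeJ3 F ω) : (Matrix F9 F9 F)ˣ).val =
      (wd (decM ω c0) (decM ω c1) (decM ω c2) p) ^ k := hm
  rw [hm'] at hs
  have hsound := appPk_sound h2 ω hω c0 c1 c2 p k v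
  unfold notProp at h
  simp only [Bool.and_eq_true, Bool.not_eq_true'] at h
  have hlt := appPk_lt c0 c1 c2 p k v hv
  have hw1 := wmul_lt v hv
  rcases hs with hs | hs | hs
  · rw [hs, Matrix.one_mulVec] at hsound
    exact Nat.ne_of_beq_eq_false h.1 (decV_inj h2 ω hω hlt hv hsound)
  · rw [hs, Matrix.smul_mulVec, Matrix.one_mulVec, ← decV_wmul h2 ω hω v hv] at hsound
    exact Nat.ne_of_beq_eq_false h.2.1 (decV_inj h2 ω hω hlt hw1 hsound)
  · rw [hs, Matrix.smul_mulVec, Matrix.one_mulVec, pow_two, mul_smul, ← decV_wmul h2 ω hω v hv,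
      ← decV_wmul h2 ω hω _ hw1] at hsound
    exact Nat.ne_of_beq_eq_false h.2.2 (decV_inj h2 ω hω hlt (wmul_lt _ hw1) hsound)

end field4

end Cfsg.Agent.Lib.Helper10.J3
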