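import Cfsg.Agent.Lib.Helper10.J3.OutA
import Cfsg.Agent.Lib.Helper43.RealElt

/-!
The number of automorphisms of the third Janko group is at most twice its order.
-/

set_option autoImplicit false

namespace Cfsg.Agent.Lib.Helper10.J3

open Cfsg.Spor Matrix

/-- one step of a stabiliser chain in the automorphism group. -/
theorem card_le_step {G : Type*} [Group G] [Finite G] (A : Subgroup (MulAut G)) (x : G) (n : ℕ) (Y : ℕ → G)
    (hY : ∀ α ∈ A, ∃ i < n, α x = Y i) :
    Nat.card A ≤ n * Nat.card (A ⊓ MulAction.stabilizer (MulAut G) x : Subgroup (MulAut G)) := by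
  classical
  have hY' : ∀ α : A, ∃ i : Fin n, (α : MulAut G) x = Y i := fun α => by
    obtain ⟨i, hi, e⟩ := hY α α.2
    exact ⟨⟨i, hi⟩, e⟩
  choose idx hidx using hY'
  let rep : Fin n → A := fun i => if h : ∃ β : A, idx β = i then h.choose else 1
  have hrep : ∀ α : A, idx (rep (idx α)) = idx α := by
    intro α
    have h : ∃ β : A, idx β = idx α := ⟨α, rfl⟩
    simp only [rep, dif_pos h]
    exact h.choose_spec
  have hmem : ∀ α : A, (((rep (idx α))⁻¹ * α : A) : MulAut G) ∈
      (A ⊓ MulAction.stabilizer (MulAut G) x : Subgroup (MulAut G)) := by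
    intro α
    refine Subgroup.mem_inf.2 ⟨((rep (idx α))⁻¹ * α : A).2, ?_⟩
    rw [MulAction.mem_stabilizer_iff, MulAut.smul_def]
    have h1 : ((rep (idx α) : A) : MulAut G) x = (α : MulAut G) x := by
      rw [hidx, hidx, hrep]
    show ((rep (idx α) : A) : MulAut G)⁻¹ ((α : MulAut G) x) = x
    rw [← h1]
    exact MulEquiv.symm_apply_apply _ x
  let f : A → Fin n × (A ⊓ MulAction.stabilizer (MulAut G) x : Subgroup (MulAut G)) :=
    fun α => (idx α, ⟨_, hmem α⟩)
  have hf : Function.Injective f := by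
    intro α β h
    have h1 : idx α = idx β := congrArg Prod.fst h
    have h2 : (((rep (idx α))⁻¹ * α : A) : MulAut G) = (((rep (idx β))⁻¹ * β : A) : MulAut G) :=
      congrArg (fun q => (q.2 : MulAut G)) h
    rw [h1] at h2
    exact mul_left_cancel (Subtype.ext h2)
  have := Nat.card_le_card_of_injective f hf
  rwa [Nat.card_prod, Nat.card_fin] at this

theorem gVv_lt (m : ℕ) : gVv m < 2 ^ 18 := by
  unfold gVv dG look
  rw [land_eq, shr_eq, Nat.shiftRight_eq_div_pow]
  have : (dGch (Nat.shiftRight m 11)).shiftRight (Nat.mul 23 (Nat.land m 2047)) &&& 8388607 < 2 ^ 23 :=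
    Nat.and_lt_two_pow _ (by norm_num)
  apply Nat.div_lt_of_lt_mul
  calc _ < 2 ^ 23 := this
    _ = 2 ^ 5 * 2 ^ 18 := by norm_num

theorem fPl_lt (m : ℕ) : fPl m < 2 ^ 18 := by
  unfold fPl dF look
  rw [land_eq, shr_eq, Nat.shiftRight_eq_div_pow]
  have : (dFch (Nat.shiftRight m 11)).shiftRight (Nat.mul 20 (Nat.land m 2047)) &&& 1048575 < 2 ^ 20 :=
    Nat.and_lt_two_pow _ (by norm_num)
  apply Nat.div_lt_of_lt_mul
  calc _ < 2 ^ 20 := this
    _ = 2 ^ 2 * 2 ^ 18 := by norm_num

theorem chkG_all : ∀ m < nY, (svG (gX m) = m ∧ gX m < 10) ∨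
    notProp (appPk (dC jz) (dC jf) (dY m) (tP (gX m)) (tK (gX m)) (gVv m)) (gVv m) = true := by
  intro m hm
  have hm' : m < 26163 := hm
  have h : chkG m = true := by
    rcases lt_or_ge m 16384 with h0 | h0
    · exact allB_spec 14 0 _ vg0 m (by omega) (by norm_num; omega)
    · exact allB_spec 14 16384 _ vg1 m (by omega) (by norm_num; omega)
  unfold chkG at h
  rw [Bool.or_eq_true] at h
  rcases h with h | h
  · rw [Nat.ble_eq] at h
    exact absurd hm (not_lt.mpr h)
  · cases hb : Nat.beq (Nat.land (dG m) 1) 1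
    · rw [hb] at h
      exact Or.inr h
    · rw [hb] at h
      simp only [cond_true, Bool.and_eq_true, Nat.beq_eq, Nat.blt_eq] at h
      exact Or.inl h

theorem chkF_all : ∀ j < nC, notProp (appPk 0 0 (dC j) [2] 5 (fPl j)) (fPl j) = true ∨ jW (fPl j) = j ∨
    (Nat.shiftRight (fPl j) 2 < 384 ∧ rF (Nat.shiftRight (fPl j) 2) < nC ∧
      eqMul (dC (jW (Nat.land (fPl j) 3))) (dC (rF (Nat.shiftRight (fPl j) 2))) (dC j) = true) := by
  intro j hj
  have hj' : j < 5760 := hj
  have h : chkF j = true := allB_spec 13 0 _ vf j (by omega) (by norm_num; omega)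
  unfold chkF at h
  rw [Bool.or_eq_true] at h
  rcases h with h | h
  · rw [Nat.ble_eq] at h
    exact absurd hj (not_lt.mpr h)
  · cases hb : Nat.beq (fKd j) 0
    · rw [hb] at h
      cases hb1 : Nat.beq (fKd j) 1
      · rw [hb1] at h
        simp only [cond_false, Bool.and_eq_true, Nat.blt_eq] at h
        exact Or.inr (Or.inr h)
      · rw [hb1] at h
        simp only [cond_false, cond_true, Nat.beq_eq] at h
        exact Or.inr (Or.inl h)
    · rw [hb] at h
      exact Or.inl h

theorem chkW_all : ∀ t < nW, t < 3 ∨ (wA t < t ∧ wB t < t ∧ eqMul (dW (wA t)) (dW (wB t)) (dW t) = true) := by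
  intro t ht
  have ht' : t < 149 := ht
  have h : chkW t = true := allB_spec 8 0 _ vw8 t (by omega) (by norm_num; omega)
  unfold chkW at h
  simp only [Bool.or_eq_true, Bool.and_eq_true, Nat.ble_eq, Nat.blt_eq] at h
  rcases h with h | h
  · exact absurd ht (not_lt.mpr h)
  · exact h

theorem w0_spec : dW 0 = dC jz ∧ dW 1 = dC jf ∧ dW 2 = dY mg ∧ dW eu = uC ∧ dW ev = vC := by
  have h := vw0
  unfold chkW0 at h
  simp only [Bool.and_eq_true, Nat.beq_eq] at h
  exact h

theorem tests_spec : ∀ i, isOne (dC jz) (dC jf) (dY mg) (tP i) (tK i) = true := by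
  have h := vrel
  unfold chkRel at h
  simp only [Bool.and_eq_true] at h
  intro i
  unfold tP tK
  cases h0 : Nat.beq i 0
  · cases h1 : Nat.beq i 1
    · cases h2 : Nat.beq i 2
      · exact h.2.2.2.1
      · exact h.2.2.1
    · exact h.2.1
  · exact h.1

theorem f5_spec : isOne 0 0 (dC jf) [2] 5 = true := by
  have h := vrel
  unfold chkRel at h
  simp only [Bool.and_eq_true] at h
  exact h.2.2.2.2

end Cfsg.Agent.Lib.Helper10.J3
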