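import Cfsg.Agent.Lib.Helper10.J3.OutC

/-!
The number of automorphisms of the third Janko group is at most twice its order (the bound).
-/

set_option autoImplicit false

namespace Cfsg.Agent.Lib.Helper10.J3

open Cfsg.Spor Matrix

section field4
variable {F : Type*} [Field F] [Fintype F] (hF : Fintype.card F = 4) (ω : F) (hω : ω ^ 2 + ω + 1 = 0)
variable (κ : ℕ → threeJ3 F ω) (hκ : ∀ j < nC, mat ω (κ j) = decM ω (dC j))
variable (y : ℕ → threeJ3 F ω) (hy : ∀ m < nY, mat ω (y m) = decM ω (dY m))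
  (hyc : ∀ m < nY, ∃ g : threeJ3 F ω, g * κ jz * g⁻¹ = y m)
include hF hω hκ hy

theorem gen_threeJ3 : Subgroup.closure ({κ jz, κ jf, y mg} : Set (threeJ3 F ω)) = ⊤ := by
  have h2 := two_eq_zero hF
  have w0 := w0_spec
  set L : Subgroup (threeJ3 F ω) := Subgroup.closure ({κ jz, κ jf, y mg} : Set (threeJ3 F ω)) with hL
  have key : ∀ t, t < nW → ∃ x ∈ L, mat ω x = decM ω (dW t) := by
    intro t
    induction t using Nat.strong_induction_on with
    | _ t ih =>
      intro ht
      rcases chkW_all t ht with h | h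
      · interval_cases t
        · exact ⟨κ jz, Subgroup.subset_closure (by simp), by rw [w0.1]; exact hκ _ (by decide)⟩
        · exact ⟨κ jf, Subgroup.subset_closure (by simp), by rw [w0.2.1]; exact hκ _ (by decide)⟩
        · exact ⟨y mg, Subgroup.subset_closure (by simp), by rw [w0.2.2.1]; exact hy _ (by decide)⟩
      · obtain ⟨a, ha, hae⟩ := ih (wA t) h.1 (lt_trans h.1 ht)
        obtain ⟨b, hb, hbe⟩ := ih (wB t) h.2.1 (lt_trans h.2.1 ht)
        exact ⟨a * b, L.mul_mem ha hb, by rw [map_mul, hae, hbe]; exact eqMul_sound h2 ω hω h.2.2⟩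
  obtain ⟨su, hsu, hsue⟩ := exists_su h2 ω hω
  obtain ⟨sv, hsv, hsve⟩ := exists_sv h2 ω hω
  have hK : threeJ3 F ω = Subgroup.closure {su, sv} := by
    symm
    apply Subgroup.eq_of_le_of_card_ge
    · rw [Subgroup.closure_le]
      rintro x (rfl | rfl)
      · exact hsu
      · exact hsv
    · have := card_K h2 ω hω (fun k => if k = 0 then su else sv) (by
        intro k hk
        interval_cases k
        · exact hsue
        · exact hsve)
      simp only [if_true, one_ne_zero, if_false] at this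
      rw [this, (j3_main hF ω hω).2.1]
  have htop := closure_pair_top (threeJ3 F ω) su sv hsu hsv hK
  rw [eq_top_iff, ← htop, Subgroup.closure_le]
  rintro x (rfl | rfl)
  · obtain ⟨a, ha, hae⟩ := key eu (by decide)
    have : a = ⟨su, hsu⟩ := mat_inj ω (by rw [hae, w0.2.2.2.1]; exact hsue.symm)
    rw [← this]
    exact ha
  · obtain ⟨a, ha, hae⟩ := key ev (by decide)
    have : a = ⟨sv, hsv⟩ := mat_inj ω (by rw [hae, w0.2.2.2.2]; exact hsve.symm)
    rw [← this]
    exact ha

theorem gen_J3 : Subgroup.closure ({pj ω (κ jz), pj ω (κ jf), pj ω (y mg)} : Set (J3 F ω)) = ⊤ := by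
  have h := gen_threeJ3 hF ω hω κ hκ y hy
  have h1 := congrArg (Subgroup.map (pj ω)) h
  rw [MonoidHom.map_closure, Subgroup.map_top_of_surjective _
    (QuotientGroup.mk'_surjective (Subgroup.center (threeJ3 F ω)))] at h1
  rw [← h1]
  congr 1
  simp [Set.image_insert_eq]

include hyc

theorem card_aut_le : Nat.card (MulAut (J3 F ω)) ≤ 100465920 := by
  have h2 := two_eq_zero hF
  have hmain := j3_main hF ω hω
  have : Finite (J3 F ω) := Nat.finite_of_card_ne_zero (by rw [hmain.2.2.1]; norm_num)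
  set Z : J3 F ω := pj ω (κ jz) with hZ
  set Fj : J3 F ω := pj ω (κ jf) with hFj
  set Gj : J3 F ω := pj ω (y mg) with hGj
  have hz2 := z_sq hF ω hω κ hκ
  have hinv := invol_J3 hF ω hω κ hκ y hy hyc
  -- involutions
  have hpjinv : ∀ t : threeJ3 F ω, t ^ 2 = 1 → t ≠ 1 → (pj ω t) ^ 2 = 1 ∧ pj ω t ≠ 1 := by
    intro t ht2 ht1
    refine ⟨by rw [← map_pow, ht2, map_one], fun h => ht1 ?_⟩
    exact pj_inj2 hF ω hω ⟨1, by simpa using ht2⟩ ⟨0, by simp⟩ (by rw [h, map_one])
  have hZi := hpjinv _ hz2 (z_ne_one hF ω hω κ hκ)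
  have hGi := hpjinv _ (y_sq hF ω hω κ hκ y hy hyc mg (by decide)).1 (y_sq hF ω hω κ hκ y hy hyc mg (by decide)).2
  have hαinv : ∀ (α : MulAut (J3 F ω)) (x : J3 F ω), x ^ 2 = 1 ∧ x ≠ 1 → (α x) ^ 2 = 1 ∧ α x ≠ 1 := by
    intro α x hx
    refine ⟨by rw [← map_pow, hx.1, map_one], fun h => hx.2 ?_⟩
    exact α.injective (by rw [h, map_one])
  -- the element of order five
  have hf5 : κ jf ^ 5 = 1 := by
    apply mat_inj ω
    have := eq_one_of_isOne h2 ω hω f5_spec
    rw [wd_two] at this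
    rw [map_pow, map_one, hκ jf (by decide), this]
  have hf1 : Fj ≠ 1 := by
    intro h
    rw [hFj, pj_eq_one_iff] at h
    have h3 : κ jf ^ 3 = 1 := by
      have := pow_card_eq_one' (G := Subgroup.center (threeJ3 F ω)) (x := ⟨κ jf, h⟩)
      rw [hmain.1] at this
      exact congrArg Subtype.val this
    have h1 : κ jf = 1 := by
      calc κ jf = (κ jf ^ 3) ^ 2 * (κ jf ^ 5)⁻¹ := by group
        _ = 1 := by rw [h3, hf5]; simp
    rw [← kap_one h2 ω hω κ hκ] at h1
    exact absurd (kap_inj h2 ω hω κ hκ _ (by decide) _ (by decide) h1) (by decide)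
  have hFZ : Fj * Z = Z * Fj := by
    rw [hFj, hZ, ← map_mul, ← map_mul, Cg_comm h2 ω hω κ hκ _ (kap_mem_Cg h2 ω hω κ hκ jf (by decide))]
  -- step 1
  have s1 := card_le_step (⊤ : Subgroup (MulAut (J3 F ω))) Z nY (fun m => pj ω (y m)) (by
    intro α _
    have := hαinv α Z hZi
    exact hinv _ this.1 this.2)
  -- step 2
  have s2 := card_le_step ((⊤ : Subgroup (MulAut (J3 F ω))) ⊓ MulAction.stabilizer (MulAut (J3 F ω)) Z) Fj 384
    (fun i => pj ω (κ (rF i))) (by
    intro α hα
    have hαZ : α Z = Z := hα.2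
    have hc : α Fj * Z = Z * α Fj := by
      calc α Fj * Z = α Fj * α Z := by rw [hαZ]
        _ = α (Fj * Z) := (map_mul α _ _).symm
        _ = α (Z * Fj) := by rw [hFZ]
        _ = Z * α Fj := by rw [map_mul, hαZ]
    obtain ⟨j, hj, he⟩ := comm_J3 hF ω hω κ hκ _ hc
    have h5 : pj ω (κ j ^ 5) = 1 := by
      rw [map_pow, ← he, ← map_pow, hFj, ← map_pow, hf5, map_one, map_one]
    have hne : pj ω (κ j) ≠ 1 := by
      rw [← he]
      intro h
      exact hf1 (α.injective (by rw [h, map_one]))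
    rcases chkF_all j hj with h | h | h
    · exfalso
      rw [appPk_two 0 0 (dC j) (dC j)] at h
      have := not_center_of_notProp hF ω hω (hκ j hj) (hκ j hj) (hκ j hj) [2] 5 (fPl j) (fPl_lt j) h
      rw [wd_two] at this
      exact this ((pj_eq_one_iff ω _).1 h5)
    · exfalso
      apply hne
      rw [pj_eq_one_iff, ← h]
      exact kap_W h2 ω hω κ hκ _
    · refine ⟨_, h.1, ?_⟩
      have h3 := lift_mul h2 ω hω (hκ _ (jW_lt _)) (hκ _ h.2.1) (hκ j hj) h.2.2
      rw [he, ← h3, map_mul, (pj_eq_one_iff ω _).2 (kap_W h2 ω hω κ hκ _), one_mul])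
  -- step 3
  have s3 := card_le_step (((⊤ : Subgroup (MulAut (J3 F ω))) ⊓ MulAction.stabilizer (MulAut (J3 F ω)) Z) ⊓
    MulAction.stabilizer (MulAut (J3 F ω)) Fj) Gj 10 (fun i => pj ω (y (svG i))) (by
    intro α hα
    have hαZ : α Z = Z := hα.1.2
    have hαF : α Fj = Fj := hα.2
    have := hαinv α Gj hGi
    obtain ⟨m, hm, he⟩ := hinv _ this.1 this.2
    rcases chkG_all m hm with h | h
    · exact ⟨gX m, h.2, by rw [he, h.1]⟩
    · exfalso
      have hnc := not_center_of_notProp hF ω hω (hκ jz (by decide)) (hκ jf (by decide)) (hy m hm)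
        (tP (gX m)) (tK (gX m)) (gVv m) (gVv_lt m) h
      apply hnc
      rw [← pj_eq_one_iff, map_pow, map_wd, ← he, ← hZ, ← hFj]
      have hrel : wd (κ jz) (κ jf) (y mg) (tP (gX m)) ^ (tK (gX m)) = 1 := by
        apply mat_inj ω
        rw [mat_wd ω (hκ jz (by decide)) (hκ jf (by decide)) (hy mg (by decide)), map_one]
        exact eq_one_of_isOne h2 ω hω (tests_spec _)
      have h4 := congrArg (fun t => α (pj ω t)) hrel
      simp only [map_pow, map_one] at h4
      rw [map_wd (pj ω), ← hZ, ← hFj, ← hGj] at h4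
      have h5 : α (wd Z Fj Gj (tP (gX m))) = wd (α Z) (α Fj) (α Gj) (tP (gX m)) :=
        map_wd α.toMonoidHom Z Fj Gj _
      rw [h5, hαZ, hαF] at h4
      exact h4)
  -- the end of the chain
  have s4 : Nat.card ((((⊤ : Subgroup (MulAut (J3 F ω))) ⊓ MulAction.stabilizer (MulAut (J3 F ω)) Z) ⊓
    MulAction.stabilizer (MulAut (J3 F ω)) Fj) ⊓ MulAction.stabilizer (MulAut (J3 F ω)) Gj :
      Subgroup (MulAut (J3 F ω))) = 1 := by
    rw [Subgroup.card_eq_one, Subgroup.eq_bot_iff_forall]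
    intro α hα
    have hαZ : α Z = Z := hα.1.1.2
    have hαF : α Fj = Fj := hα.1.2
    have hαG : α Gj = Gj := hα.2
    have hh : (α : J3 F ω →* J3 F ω) = MonoidHom.id _ := by
      apply MonoidHom.eq_of_eqOn_dense (gen_J3 hF ω hω κ hκ y hy)
      rintro x (rfl | rfl | rfl)
      · exact hαZ
      · exact hαF
      · exact hαG
    ext x
    exact DFunLike.congr_fun hh x
  rw [Subgroup.card_top] at s1
  rw [s4] at s3
  have : nY = 26163 := rfl
  rw [this] at s1
  omega

end field4

end Cfsg.Agent.Lib.Helper10.J3
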