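import Cfsg.Agent.Lib.Helper10.J3.Unitary
import Cfsg.Agent.Lib.Helper10.J3.FusB

/-!
An outer automorphism of the third Janko group: the Frobenius map on the entries composed with the conjugation of the
index set.
-/

set_option autoImplicit false

namespace Cfsg.Agent.Lib.Helper10.J3

open Cfsg.Spor Matrix

/-- conjugation of the field with nine elements. -/
def cj9 : F9 ≃ F9 where
  toFun z := (z.1, -z.2)
  invFun z := (z.1, -z.2)
  left_inv z := by simp
  right_inv z := by simp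

/-- index of the conjugate. -/
def cjI (i : ℕ) : ℕ := ix (cj9 ((i / 3 : ℕ), (i % 3 : ℕ)))
/-- index of `(-X, Y)`. -/
def ngI (i : ℕ) : ℕ := ix ((-(i / 3 : ℕ) : ZMod 3), ((i % 3 : ℕ) : ZMod 3))

/-- code of the image of a generator. -/
def pC (f i : ℕ) : ℕ := if f = 0 then gC 0 (ngI i) else if f = 1 then gV 1 (cjI i) else gC f (cjI i)

theorem pC_ok : ∀ f < 5, ∀ i < 9, ∀ w z : F9, sq4 (en (gC f i) (cj9 w) (cj9 z)) = en (pC f i) w z := by
  decide +kernel

theorem cjI_lt : ∀ i < 9, cjI i < 9 := by decide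
theorem ngI_lt : ∀ i < 9, ngI i < 9 := by decide

section field
variable {F : Type*} [Field F] (h2 : (2 : F) = 0)

/-- squaring as a ring homomorphism. -/
def sqHom : F →+* F where
  toFun x := x ^ 2
  map_one' := one_pow 2
  map_mul' a b := mul_pow a b 2
  map_zero' := by simp
  map_add' a b := by linear_combination (a * b) * h2

/-- the semilinear map on matrices. -/
def Phi : Matrix F9 F9 F →* Matrix F9 F9 F where
  toFun M := ((sqHom h2).mapMatrix M).submatrix cj9 cj9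
  map_one' := by rw [map_one, Matrix.submatrix_one_equiv]
  map_mul' M N := by rw [map_mul, Matrix.submatrix_mul_equiv]

theorem Phi_apply (M : Matrix F9 F9 F) (w z : F9) : Phi h2 M w z = (M (cj9 w) (cj9 z)) ^ 2 := rfl

variable (ω : F) (hω : ω ^ 2 + ω + 1 = 0)
include h2 hω

theorem Phi_decM {c c' : ℕ} (h : ∀ w z : F9, sq4 (en c (cj9 w) (cj9 z)) = en c' w z) :
    Phi h2 (decM ω c) = decM ω c' := by
  ext w z
  rw [Phi_apply, decM_apply h2 ω hω, decM_apply h2 ω hω, ← h w z, val4_sq ω hω _ (en_lt _ _ _)]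

theorem exists_gC (f : ℕ) (hf : f < 5) (i : ℕ) (hi : i < 9) :
    ∃ x ∈ threeJ3 F ω, (x : Matrix F9 F9 F) = decM ω (gC f i) := by
  obtain ⟨-, -, -, -, -, -, -, -, hmem⟩ := structure_threeJ3 h2 ω hω
  have h := g_loc f hf i hi
  simp only [Bool.and_eq_true, Nat.blt_eq] at h
  obtain ⟨x, hx, e⟩ := hmem _ h.1 _ h.2.1
  exact ⟨x, hx, by rw [e, eqMul_sound h2 ω hω h.2.2]⟩

theorem exists_gV (f : ℕ) (hf : f < 5) (i : ℕ) (hi : i < 9) :
    ∃ x ∈ threeJ3 F ω, (x : Matrix F9 F9 F) = decM ω (gV f i) := by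
  obtain ⟨x, hx, e⟩ := exists_gC h2 ω hω f hf i hi
  refine ⟨x⁻¹, Subgroup.inv_mem _ hx, ?_⟩
  apply Units.inv_eq_of_mul_eq_one_right
  rw [e, eqMul_sound h2 ω hω (g_inv f hf i hi), decM_id h2 ω hω]

theorem exists_pC (f : ℕ) (hf : f < 5) (i : ℕ) (hi : i < 9) :
    ∃ x ∈ threeJ3 F ω, (x : Matrix F9 F9 F) = decM ω (pC f i) := by
  unfold pC
  split_ifs with h0 h1
  · exact exists_gC h2 ω hω 0 (by norm_num) _ (ngI_lt i hi)
  · exact exists_gV h2 ω hω 1 (by norm_num) _ (cjI_lt i hi)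
  · exact exists_gC h2 ω hω f hf _ (cjI_lt i hi)

theorem Psi_mem : ∀ g ∈ threeJ3 F ω, Units.map (Phi h2) g ∈ threeJ3 F ω := by
  have key : ∀ (f : ℕ) (_ : f < 5) (i : ℕ) (_ : i < 9) (g : (Matrix F9 F9 F)ˣ),
      (g : Matrix F9 F9 F) = decM ω (gC f i) → Units.map (Phi h2) g ∈ threeJ3 F ω := by
    intro f hf i hi g hg
    obtain ⟨x, hx, e⟩ := exists_pC h2 ω hω f hf i hi
    have : Units.map (Phi h2) g = x := by
      apply Units.ext
      rw [Units.coe_map, e]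
      show Phi h2 (g : Matrix F9 F9 F) = _
      rw [hg]
      exact Phi_decM h2 ω hω (pC_ok f hf i hi)
    rw [this]
    exact hx
  have hle : threeJ3 F ω ≤ (threeJ3 F ω).comap (Units.map (Phi h2)) := by
    unfold threeJ3
    rw [Subgroup.closure_le]
    intro g hg
    have hg' : (g : Matrix F9 F9 F) ∈ j3Gens F ω := hg
    show Units.map (Phi h2) g ∈ threeJ3 F ω
    rcases hg' with (((⟨Z, hZ⟩ | ⟨Z, hZ⟩) | ⟨Z, hZ⟩) | ⟨Z, hZ0, hZ⟩) | ⟨Z, hZ0, hZ⟩
    · exact key 0 (by norm_num) (ix Z) (ix_lt Z) g (by rw [← hZ, decM_gA h2 ω hω])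
    · exact key 1 (by norm_num) (ix Z) (ix_lt Z) g (by rw [← hZ, decM_gE h2 ω hω])
    · exact key 2 (by norm_num) (ix Z) (ix_lt Z) g (by rw [← hZ, decM_gD h2 ω hω])
    · exact key 3 (by norm_num) (ix Z) (ix_lt Z) g (by rw [hZ, decM_gB h2 ω hω Z hZ0])
    · exact key 4 (by norm_num) (ix Z) (ix_lt Z) g (by rw [hZ, decM_gC h2 ω hω Z hZ0])
  exact fun g hg => hle hg

end field

end Cfsg.Agent.Lib.Helper10.J3
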