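import Cfsg.Agent.Lib.Helper10.J3.OutD
import Cfsg.Agent.Lib.Helper10.J3.OutE
import Cfsg.Prelude.Def_KGroupFacts

/-!
The outer automorphism group of the third Janko group has order two.
-/

set_option autoImplicit false

namespace Cfsg.Agent.Lib.Helper10.J3

open Cfsg.Spor Matrix

section field4
variable {F : Type*} [Field F] [Fintype F] (hF : Fintype.card F = 4) (ω : F) (hω : ω ^ 2 + ω + 1 = 0)

/-- the semilinear automorphism of the triple cover, as a homomorphism. -/
def psiHom : threeJ3 F ω →* threeJ3 F ω :=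
  ((Units.map (Phi (two_eq_zero hF))).comp (threeJ3 F ω).subtype).codRestrict (threeJ3 F ω)
    (fun x => Psi_mem (two_eq_zero hF) ω hω x x.2)

theorem mat_psi (x : threeJ3 F ω) : mat ω (psiHom hF ω hω x) = Phi (two_eq_zero hF) (mat ω x) := rfl

theorem Phi_Phi (M : Matrix F9 F9 F) : Phi (two_eq_zero hF) (Phi (two_eq_zero hF) M) = M := by
  ext w z
  rw [Phi_apply, Phi_apply]
  have hc : ∀ u : F9, cj9 (cj9 u) = u := fun u => by simp [cj9]
  rw [hc, hc, ← pow_mul]
  have := FiniteField.pow_card (M w z)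
  rw [hF] at this
  exact this

theorem psi_psi (x : threeJ3 F ω) : psiHom hF ω hω (psiHom hF ω hω x) = x := by
  apply mat_inj ω
  rw [mat_psi, mat_psi, Phi_Phi hF]

/-- the semilinear automorphism of the triple cover. -/
def psiEquiv : threeJ3 F ω ≃* threeJ3 F ω where
  toFun := psiHom hF ω hω
  invFun := psiHom hF ω hω
  left_inv := psi_psi hF ω hω
  right_inv := psi_psi hF ω hω
  map_mul' := map_mul _

/-- the induced automorphism of the simple group. -/
noncomputable def sigmaJ3 : MulAut (J3 F ω) := quotCenterCongr (psiEquiv hF ω hω)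

theorem sigma_pj (x : threeJ3 F ω) : sigmaJ3 hF ω hω (pj ω x) = pj ω (psiHom hF ω hω x) := rfl

theorem sigma_not_inner : sigmaJ3 hF ω hω ∉ Cfsg.Inn (J3 F ω) := by
  have h2 := two_eq_zero hF
  rintro ⟨h, hh⟩
  obtain ⟨ht, rfl⟩ := QuotientGroup.mk'_surjective (Subgroup.center (threeJ3 F ω)) h
  have key : ∀ x : threeJ3 F ω, x ^ 19 = 1 → psiHom hF ω hω x = ht * x * ht⁻¹ := by
    intro x hx
    apply Cfsg.Agent.Lib.Helper89.eq_of_map_eq_of_pElement (p := 19) (pj ω) (by rw [QuotientGroup.ker_mk'])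
      (by rw [QuotientGroup.ker_mk', (j3_main hF ω hω).1]; norm_num)
    · exact ⟨1, by rw [pow_one, ← map_pow, hx, map_one]⟩
    · exact ⟨1, by rw [pow_one, conj_pow, hx]; group⟩
    · rw [← sigma_pj, ← hh]
      simp [MulAut.conj_apply]
  obtain ⟨su, sv, hu19, hv19, hK, -, ⟨z, hz, hze⟩, -, -⟩ := structure_threeJ3 h2 ω hω
  have hsu : su ∈ threeJ3 F ω := by rw [hK]; exact Subgroup.subset_closure (Or.inl rfl)
  have hsv : sv ∈ threeJ3 F ω := by rw [hK]; exact Subgroup.subset_closure (Or.inr rfl)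
  have htop := closure_pair_top (threeJ3 F ω) su sv hsu hsv hK
  have hall : psiHom hF ω hω = (MulAut.conj ht).toMonoidHom := by
    apply MonoidHom.eq_of_eqOn_dense htop
    rintro x (rfl | rfl)
    · exact key _ (Subtype.ext hu19)
    · exact key _ (Subtype.ext hv19)
  have h3 := DFunLike.congr_fun hall ⟨z, hz⟩
  have h4 : (MulAut.conj ht).toMonoidHom ⟨z, hz⟩ = ⟨z, hz⟩ := by
    show ht * ⟨z, hz⟩ * ht⁻¹ = ⟨z, hz⟩
    have hc : ht * ⟨z, hz⟩ = ⟨z, hz⟩ * ht := by
      apply mat_inj ω
      rw [map_mul, map_mul]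
      have : mat ω ⟨z, hz⟩ = ω • (1 : Matrix F9 F9 F) := hze
      rw [this]
      simp
    rw [hc, mul_inv_cancel_right]
  rw [h4] at h3
  have h5 := congrArg (mat ω) h3
  rw [mat_psi] at h5
  have h6 : mat ω ⟨z, hz⟩ = ω • (1 : Matrix F9 F9 F) := hze
  rw [h6] at h5
  have h7 := congrFun (congrFun h5 (0, 0)) (0, 0)
  rw [Phi_apply] at h7
  have hc0 : cj9 ((0, 0) : F9) = (0, 0) := by simp [cj9]
  rw [hc0] at h7
  simp only [Matrix.smul_apply, Matrix.one_apply_eq, smul_eq_mul, mul_one] at h7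
  -- ω ^ 2 = ω
  have h8 : (1 : F) = 0 := by linear_combination hω - ω * h2 - h7
  exact one_ne_zero h8

include hF hω in
theorem card_out_J3 : Nat.card (Cfsg.Out (J3 F ω)) = 2 := by
  have h2 := two_eq_zero hF
  have hmain := j3_main hF ω hω
  have : Finite (J3 F ω) := Nat.finite_of_card_ne_zero (by rw [hmain.2.2.1]; norm_num)
  obtain ⟨κ, hκ⟩ := exists_kappa h2 ω hω
  have hcl := class_mem h2 ω hω κ hκ
  choose! y g hy hg using hcl
  have hle := card_aut_le hF ω hω κ hκ y hy (fun m hm => ⟨g m, hg m hm⟩)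
  have hsimple := hmain.2.2.2
  have hcen : Subgroup.center (J3 F ω) = ⊥ := by
    rcases hsimple.eq_bot_or_eq_top_of_normal (Subgroup.center (J3 F ω)) inferInstance with h | h
    · exact h
    · exfalso
      have hp : ¬ (Nat.card (J3 F ω)).Prime := by rw [hmain.2.2.1]; norm_num
      apply hp
      let _ : CommGroup (J3 F ω) := Group.commGroupOfCenterEqTop h
      exact IsSimpleGroup.prime_card
  have hinj : Function.Injective (MulAut.conj : J3 F ω →* MulAut (J3 F ω)) := by
    rw [injective_iff_map_eq_one]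
    intro a ha
    have : a ∈ Subgroup.center (J3 F ω) := by
      rw [Subgroup.mem_center_iff]
      intro x
      have h3 := DFunLike.congr_fun ha x
      rw [MulAut.conj_apply, MulAut.one_apply] at h3
      calc x * a = (a * x * a⁻¹) * a := by rw [h3]
        _ = a * x := by group
    rwa [hcen, Subgroup.mem_bot] at this
  have hInn : Nat.card (Cfsg.Inn (J3 F ω)) = 50232960 := by
    rw [← hmain.2.2.1]
    exact (Nat.card_congr (MonoidHom.ofInjective hinj).toEquiv).symm
  have hmul := Subgroup.card_eq_card_quotient_mul_card_subgroup (Cfsg.Inn (J3 F ω))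
  rw [hInn] at hmul
  have hpos : 0 < Nat.card (MulAut (J3 F ω)) := Nat.card_pos
  have hne1 : Nat.card (MulAut (J3 F ω) ⧸ Cfsg.Inn (J3 F ω)) ≠ 1 := by
    intro h1
    have h3 : (Cfsg.Inn (J3 F ω)).index = 1 := h1
    rw [Subgroup.index_eq_one] at h3
    apply sigma_not_inner hF ω hω
    rw [h3]
    exact Subgroup.mem_top _
  show Nat.card (MulAut (J3 F ω) ⧸ Cfsg.Inn (J3 F ω)) = 2
  omega

end field4

end Cfsg.Agent.Lib.Helper10.J3
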