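import Cfsg.Agent.Lib.Helper10.J3.ODefs

/-!
The multiplication table of the normal subgroup of order 32 of the centraliser of an involution of the third Janko
group, and three generators of a complement.
-/

set_option autoImplicit false

namespace Cfsg.Agent.Lib.Helper10.J3

def qMt : ℕ := 0x676dd5aa17769e24de5472f11c8cc12cea4c3f8a02fd6f3f9d38384326396ec4144aa3416f3a7d5b7015f85dbf62ed141241d3268950b93e6762bba6ebc0cd6ce0d3bb5984c87f07526657922392397eb71407f9ac85d7814ca4faab79d839a0828cb76ddc3ec01b6aff8e29d723668340a29231507cf5df61dbbb415b73e1644899ebaa83cf25946811b340d2ceeefc06eb35929828df883106f2a61359f1f776a1a7b6d0675648caf3e3f09ad4264906246fcd3bf90e2fda01bc388735d7c9641e654645412dbc879a75f14eb41f8bd4625b722a05319d2c82ebeafdb6e383eddf007a24b577533b204488d128e99944ab8098449d0f062b6c8cd4b879edbb5f6f66a5320611d13195f1f833af2d356e1d4edf61e5a447a92532e4c10e64f500dc40ffed74175af9df2282988f5496264c69b69c1e4517cee8d07bfdae207448c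758e718248acfb1709440dd2dfe75d5d35ece6e9ff6757c56dd324e81040520e508cd8b53dcdbdb38ad3bcffb7a1ae112802291887429e99b1ae89070499483ae53a57fc008a1b6778be9beeb98f30a2a620e39bcb0bbbb4b489b0f01acfeadc796922049395f25c22c0ffdba1879e02f5b37b876953195137c60653047e3759d925605c3da63cefd52b64d621a48f29952ae42ef9e18d7ba06ef94b5d1110e4c991257a8cbdf5a0ba23ca5b2e0d71af7cf049d8443cab946026ded5d2a7dc3bfbf073c050c33ad4894c7089126edb9f6bd8eaebd7c641ba04a29bce32c22a30988c069daa57e77db9d72c0bec925c1f28b049220e57737eecd5afb716a82970e46682671228c744963d6ef8731edf76bcfd036c8045ffbbcdeb38bdab49ca307b9ac5a928398a418820c5757b769fe6fd951107635cf4cd7180c5231401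

def qMi (i : ℕ) : ℕ := Nat.land (Nat.shiftRight qMt (Nat.mul 5 i)) 31
def qM (a b : ℕ) : ℕ := qMi (Nat.add (Nat.mul 32 a) b)

def chkQM (i : ℕ) : Bool :=
  eqMul (dC (qI (Nat.shiftRight i 5))) (dC (qI (Nat.land i 31))) (dC (qI (qMi i)))

def tid : ℕ := 1
def ja0 : ℕ := 3808
def ja1 : ℕ := 203
def ja2 : ℕ := 2149

def chkA5 : Bool :=
  isOne (dC ja0) (dC ja1) (dC ja2) [0] 3 && (isOne (dC ja0) (dC ja1) (dC ja2) [1] 2 &&
  (isOne (dC ja0) (dC ja1) (dC ja2) [2] 2 && (isOne (dC ja0) (dC ja1) (dC ja2) [0, 1] 3 &&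
  (isOne (dC ja0) (dC ja1) (dC ja2) [1, 2] 3 && isOne (dC ja0) (dC ja1) (dC ja2) [0, 2] 2))))

end Cfsg.Agent.Lib.Helper10.J3
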