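import Cfsg.Agent.Lib.Helper10.J3.Center
import Cfsg.Prelude.Def_Classical
import Cfsg.Prelude.Def_Sporadic

/-!
The triple cover of the third Janko group inside the special unitary group of dimension nine.
-/

set_option autoImplicit false

namespace Cfsg.Agent.Lib.Helper10.J3

open Cfsg.Spor Matrix

def uH : ℕ := 0x1a0070032190984c08c00582c0944a00804004c
def vH : ℕ := 0x34000980048600c80016005228108c0503800100

/-- squaring on the numbers `0, 1, 2, 3`. -/
def sq4 : ℕ → ℕ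
  | 0 => 0
  | 1 => 1
  | 2 => 3
  | _ => 2

theorem uH_ok : eqMul uH uC idC = true := by decide +kernel
theorem vH_ok : eqMul vH vC idC = true := by decide +kernel
theorem uH_en : ∀ w z : F9, en uH z w = sq4 (en uC w z) := by decide +kernel
theorem vH_en : ∀ w z : F9, en vH z w = sq4 (en vC w z) := by decide +kernel
theorem en_lt (c : ℕ) (w z : F9) : en c w z < 4 := by
  unfold en
  cases (col c (ix z)).testBit (ix w) <;> cases (col c (ix z)).testBit (ix w + 9) <;> simp

section general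

theorem map_center_equiv {G H : Type*} [Group G] [Group H] (e : G ≃* H) :
    (Subgroup.center G).map (e : G →* H) = Subgroup.center H := by
  ext y
  constructor
  · rintro ⟨x, hx, rfl⟩
    rw [SetLike.mem_coe, Subgroup.mem_center_iff] at hx
    rw [Subgroup.mem_center_iff]
    intro h
    obtain ⟨g, rfl⟩ := e.surjective h
    show e g * e x = e x * e g
    rw [← map_mul, ← map_mul, hx g]
  · intro hy
    refine ⟨e.symm y, ?_, by simp⟩
    rw [Subgroup.mem_center_iff] at hy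
    rw [SetLike.mem_coe, Subgroup.mem_center_iff]
    intro g
    apply e.injective
    rw [map_mul, map_mul, e.apply_symm_apply]
    exact hy (e g)

/-- the central quotients of isomorphic groups are isomorphic. -/
noncomputable def quotCenterCongr {G H : Type*} [Group G] [Group H] (e : G ≃* H) :
    G ⧸ Subgroup.center G ≃* H ⧸ Subgroup.center H :=
  QuotientGroup.congr _ _ e (map_center_equiv e)

end general

section field
variable {F : Type*} [Field F]

/-- the Hermitian form on the space indexed by the field with nine elements. -/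
def herm9 (u v : F9 → F) : F := ∑ z, u z * (v z) ^ 2

theorem val4_sq (ω : F) (hω : ω ^ 2 + ω + 1 = 0) (n : ℕ) (hn : n < 4) : val4 ω (sq4 n) = (val4 ω n) ^ 2 := by
  interval_cases n
  · simp [val4, sq4]
  · simp [val4, sq4]
  · simp [val4, sq4]
  · simp only [val4, sq4]
    linear_combination (-(ω ^ 2) + ω) * hω

theorem herm_of_mul (h2 : (2 : F) = 0) (M N : Matrix F9 F9 F) (hN : ∀ w z, N z w = (M w z) ^ 2) (h : N * M = 1)
    (u v : F9 → F) : herm9 (M *ᵥ u) (M *ᵥ v) = herm9 u v := by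
  haveI : CharP F 2 := CharTwo.of_one_ne_zero_of_two_eq_zero one_ne_zero h2
  haveI : Fact (Nat.Prime 2) := ⟨Nat.prime_two⟩
  have hT : Mᵀ * Nᵀ = 1 := by rw [← Matrix.transpose_mul, h, Matrix.transpose_one]
  have h1 : ∀ w, ((M *ᵥ v) w) ^ 2 = (Nᵀ *ᵥ (fun z => (v z) ^ 2)) w := by
    intro w
    simp only [Matrix.mulVec, dotProduct, Matrix.transpose_apply, hN]
    rw [sum_pow_char 2]
    exact Finset.sum_congr rfl fun z _ => mul_pow _ _ _
  have h3 : herm9 (M *ᵥ u) (M *ᵥ v) = (M *ᵥ u) ⬝ᵥ (Nᵀ *ᵥ (fun z => (v z) ^ 2)) := by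
    unfold herm9 dotProduct
    exact Finset.sum_congr rfl fun w _ => by rw [h1]
  rw [h3, dotProduct_comm, Matrix.dotProduct_mulVec, ← Matrix.mulVec_transpose, Matrix.mulVec_mulVec, hT,
    Matrix.one_mulVec, dotProduct_comm]
  rfl

theorem herm_code (h2 : (2 : F) = 0) (ω : F) (hω : ω ^ 2 + ω + 1 = 0) (c c' : ℕ) (h : eqMul c' c idC = true)
    (hen : ∀ w z : F9, en c' z w = sq4 (en c w z)) (u v : F9 → F) :
    herm9 (decM ω c *ᵥ u) (decM ω c *ᵥ v) = herm9 u v := by
  apply herm_of_mul h2 _ (decM ω c')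
  · intro w z
    rw [decM_apply h2 ω hω, decM_apply h2 ω hω, hen, val4_sq ω hω _ (en_lt _ _ _)]
  · rw [eqMul_sound h2 ω hω h, decM_id h2 ω hω]

end field

theorem gV_en : ∀ f < 5, ∀ iz < 9, ∀ w z : F9, en (gV f iz) z w = sq4 (en (gC f iz) w z) := by decide +kernel

section embed
variable {F : Type*} [Field F] [Fintype F]

theorem herm_mem (hF : Fintype.card F = 4) (ω : F) (hω : ω ^ 2 + ω + 1 = 0) (x : (Matrix F9 F9 F)ˣ)
    (hx : x ∈ threeJ3 F ω) (u v : F9 → F) :
    herm9 ((x : Matrix F9 F9 F) *ᵥ u) ((x : Matrix F9 F9 F) *ᵥ v) = herm9 u v := by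
  have h2 := two_eq_zero hF
  have hle : threeJ3 F ω ≤ Cfsg.preserving (Units.coeHom (Matrix F9 F9 F)) herm9 := by
    unfold threeJ3
    rw [Subgroup.closure_le]
    intro g hg
    have hg' : (g : Matrix F9 F9 F) ∈ j3Gens F ω := hg
    have key : ∀ f < 5, ∀ iz < 9, (g : Matrix F9 F9 F) = decM ω (gC f iz) →
        g ∈ Cfsg.preserving (Units.coeHom (Matrix F9 F9 F)) herm9 := by
      intro f hf iz hiz he u v
      show herm9 ((g : Matrix F9 F9 F) *ᵥ u) ((g : Matrix F9 F9 F) *ᵥ v) = herm9 u v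
      rw [he]
      apply herm_of_mul h2 _ (decM ω (gV f iz))
      · intro w z
        rw [decM_apply h2 ω hω, decM_apply h2 ω hω, gV_en f hf iz hiz, val4_sq ω hω _ (en_lt _ _ _)]
      · apply mul_eq_one_comm.mp
        rw [eqMul_sound h2 ω hω (g_inv f hf iz hiz), decM_id h2 ω hω]
    rcases hg' with (((⟨Z, hZ⟩ | ⟨Z, hZ⟩) | ⟨Z, hZ⟩) | ⟨Z, hZ0, hZ⟩) | ⟨Z, hZ0, hZ⟩
    · exact key 0 (by norm_num) (ix Z) (ix_lt Z) (by rw [decM_gA h2 ω hω, hZ])
    · exact key 1 (by norm_num) (ix Z) (ix_lt Z) (by rw [decM_gE h2 ω hω, hZ])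
    · exact key 2 (by norm_num) (ix Z) (ix_lt Z) (by rw [decM_gD h2 ω hω, hZ])
    · exact key 3 (by norm_num) (ix Z) (ix_lt Z) (by rw [decM_gB h2 ω hω Z hZ0, hZ])
    · exact key 4 (by norm_num) (ix Z) (ix_lt Z) (by rw [decM_gC h2 ω hω Z hZ0, hZ])
  exact hle hx u v

theorem det_mem (hF : Fintype.card F = 4) (ω : F) (hω : ω ^ 2 + ω + 1 = 0) (x : (Matrix F9 F9 F)ˣ)
    (hx : x ∈ threeJ3 F ω) : (x : Matrix F9 F9 F).det = 1 := by
  classical
  have h2 := two_eq_zero hF
  obtain ⟨su, sv, hu19, hv19, hK, -⟩ := structure_threeJ3 h2 ω hω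
  have hcard : Fintype.card Fˣ = 3 := by rw [Fintype.card_units, hF]
  have key : ∀ t : (Matrix F9 F9 F)ˣ, t ^ 19 = 1 → t ∈ (Matrix.GeneralLinearGroup.det : (Matrix F9 F9 F)ˣ →* Fˣ).ker := by
    intro t ht
    rw [MonoidHom.mem_ker]
    set d := (Matrix.GeneralLinearGroup.det : (Matrix F9 F9 F)ˣ →* Fˣ) t with hd
    have h19 : d ^ 19 = 1 := by rw [hd, ← map_pow, ht, map_one]
    have h3 : d ^ 3 = 1 := by rw [← hcard]; exact pow_card_eq_one
    have : d ^ 19 = (d ^ 3) ^ 6 * d := by group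
    rw [this, h3, one_pow, one_mul] at h19
    exact h19
  have hle : threeJ3 F ω ≤ (Matrix.GeneralLinearGroup.det : (Matrix F9 F9 F)ˣ →* Fˣ).ker := by
    rw [hK, Subgroup.closure_le]
    rintro t (rfl | rfl)
    · exact key _ hu19
    · exact key _ hv19
  have h := hle hx
  rw [MonoidHom.mem_ker] at h
  have h' := congrArg (fun y : Fˣ => (y : F)) h
  simpa using h'

/-- an enumeration of the index set. -/
noncomputable def e9 : F9 ≃ Fin 9 := Fintype.equivFinOfCardEq (by decide)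

/-- the embedding in the special linear group. -/
noncomputable def toSL (hF : Fintype.card F = 4) (ω : F) (hω : ω ^ 2 + ω + 1 = 0) :
    threeJ3 F ω →* Matrix.SpecialLinearGroup (Fin 9) F :=
  MonoidHom.mk' (fun x => ⟨Matrix.reindexAlgEquiv F F e9 ((x : (Matrix F9 F9 F)ˣ) : Matrix F9 F9 F), by
    rw [Matrix.det_reindexAlgEquiv]; exact det_mem hF ω hω x x.2⟩) (by
    intro x y
    apply Subtype.ext
    simp only [Subgroup.coe_mul, Units.val_mul, map_mul]
    rfl)

theorem toSL_injective (hF : Fintype.card F = 4) (ω : F) (hω : ω ^ 2 + ω + 1 = 0) :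
    Function.Injective (toSL hF ω hω) := by
  intro x y h
  have h1 := congrArg Subtype.val h
  have h3 : Matrix.reindexAlgEquiv F F e9 ((x : (Matrix F9 F9 F)ˣ) : Matrix F9 F9 F) =
      Matrix.reindexAlgEquiv F F e9 ((y : (Matrix F9 F9 F)ˣ) : Matrix F9 F9 F) := h1
  exact Subtype.ext (Units.ext ((Matrix.reindexAlgEquiv F F e9).injective h3))

omit [Fintype F] in
theorem hermForm_eq (u v : Fin 9 → F) : Cfsg.hermForm 9 F 2 u v = herm9 (u ∘ e9) (v ∘ e9) := by
  unfold Cfsg.hermForm herm9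
  exact (Equiv.sum_comp e9 (fun i => u i * (v i) ^ 2)).symm

theorem toSL_mem (hF : Fintype.card F = 4) (ω : F) (hω : ω ^ 2 + ω + 1 = 0) (x : threeJ3 F ω) :
    toSL hF ω hω x ∈ Cfsg.SU 9 F 2 := by
  intro u v
  have hm : ∀ a : Fin 9 → F, (Cfsg.slToMat 9 F (toSL hF ω hω x) *ᵥ a) ∘ e9 =
      ((x : (Matrix F9 F9 F)ˣ) : Matrix F9 F9 F) *ᵥ (a ∘ e9) := by
    intro a
    have : Cfsg.slToMat 9 F (toSL hF ω hω x) =
        (((x : (Matrix F9 F9 F)ˣ) : Matrix F9 F9 F).submatrix e9.symm e9.symm) := rfl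
    rw [this, Matrix.submatrix_mulVec_equiv]
    ext z
    simp
  rw [hermForm_eq, hermForm_eq, hm, hm]
  exact herm_mem hF ω hω x x.2 _ _

theorem exists_in_SU (hF : Fintype.card F = 4) (ω : F) (hω : ω ^ 2 + ω + 1 = 0) :
    ∃ H : Subgroup (Cfsg.SU 9 F 2), Nat.card (Subgroup.center H) = 3 ∧ Cfsg.IsJ3 (H ⧸ Subgroup.center H) := by
  set Φ : threeJ3 F ω →* Cfsg.SU 9 F 2 := (toSL hF ω hω).codRestrict (Cfsg.SU 9 F 2) (toSL_mem hF ω hω) with hΦ
  have hinj : Function.Injective Φ := by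
    intro x y h
    apply toSL_injective hF ω hω
    exact congrArg Subtype.val h
  obtain ⟨h3, -, hq, hs⟩ := j3_main hF ω hω
  let e : threeJ3 F ω ≃* Φ.range := MonoidHom.ofInjective hinj
  refine ⟨Φ.range, ?_, ?_, ?_⟩
  · rw [← Nat.card_congr (Subgroup.centerCongr e).toEquiv, h3]
  · haveI := hs
    exact (quotCenterCongr e).symm.isSimpleGroup
  · rw [← Nat.card_congr (quotCenterCongr e).toEquiv]
    exact hq

end embed

end Cfsg.Agent.Lib.Helper10.J3
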