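import Cfsg.Agent.Lib.Helper10.J3.FDefs

set_option autoImplicit false
set_option maxRecDepth 100000

namespace Cfsg.Agent.Lib.Helper10.J3

theorem vc : allB 13 0 chkCall = true := by decide +kernel
theorem vs : allB 7 0 chkS = true := by decide +kernel
theorem vq : allB 5 0 chkQ = true := by decide +kernel
theorem vmisc : chkMisc = true := by decide +kernel
theorem vw : eqMul (dC jw1) (dC jw1) (dC jw2) = true := by decide +kernel

end Cfsg.Agent.Lib.Helper10.J3
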