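import Cfsg.Agent.Lib.Helper10.J3.ODefs

set_option autoImplicit false
set_option maxRecDepth 100000

namespace Cfsg.Agent.Lib.Helper10.J3

theorem vg0 : allB 14 0 chkG = true := by decide +kernel
theorem vg1 : allB 14 16384 chkG = true := by decide +kernel
theorem vf : allB 13 0 chkF = true := by decide +kernel
theorem vrel : chkRel = true := by decide +kernel
theorem vw8 : allB 8 0 chkW = true := by decide +kernel
theorem vw0 : chkW0 = true := by decide +kernel

end Cfsg.Agent.Lib.Helper10.J3
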